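import Mathlib
import Groth.Prelude.Def_CohB1
import Groth.Agent.H97.ProjChartIso

/-!
# The open immersion `𝔸ⁿ_S ⟶ Pⁿ_S`
-/

set_option autoImplicit false
universe u
open CategoryTheory CategoryTheory.Limits AlgebraicGeometry TopologicalSpace HomogeneousLocalization

namespace Groth.Agent.H20.Chow

open Groth.Agent.H97

section chartZ

variable (k : Type u) [CommRing k] (N : ℕ)

/-- `k[x_1..x_N] ≃ (k[X_0..X_N]_{X_0})_0` -/
noncomputable def chartEquiv : MvPolynomial (Fin N) k ≃+*
    Away (CohB1.polyGrading N k) (MvPolynomial.X 0 : MvPolynomial (Fin (N + 1)) k) :=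
  (MvPolynomial.renameEquiv k (finSuccAboveEquiv (0 : Fin (N + 1)))).toRingEquiv.trans
    (RingEquiv.ofBijective (ProjChart.ψ k N 0) (ProjChart.ψ_bijective k N 0))

/-- the standard chart `A^N_k ⟶ P^N_k` -/
noncomputable def chartK : Spec (CommRingCat.of (MvPolynomial (Fin N) k)) ⟶ CohB1.ProjSpace N k :=
  (Scheme.Spec.mapIso (chartEquiv k N).toCommRingCatIso.op).inv ≫
    Proj.awayι (CohB1.polyGrading N k) (MvPolynomial.X 0) (ProjChart.X_mem k N 0) Nat.one_pos

instance : IsOpenImmersion (chartK k N) := by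
  have h2 : IsOpenImmersion (Proj.awayι (CohB1.polyGrading N k)
      (MvPolynomial.X 0 : MvPolynomial (Fin (N + 1)) k) (ProjChart.X_mem k N 0) Nat.one_pos) :=
    inferInstance
  exact IsOpenImmersion.comp (Y := Spec (.of <| Away (CohB1.polyGrading N k)
      (MvPolynomial.X 0 : MvPolynomial (Fin (N + 1)) k))) (Z := Proj (CohB1.polyGrading N k))
    (Scheme.Spec.mapIso (chartEquiv k N).toCommRingCatIso.op).inv
    (Proj.awayι (CohB1.polyGrading N k)
      (MvPolynomial.X 0 : MvPolynomial (Fin (N + 1)) k) (ProjChart.X_mem k N 0) Nat.one_pos)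

end chartZ

section overS

variable {n : Type u} {N : ℕ} (e : n ≃ Fin N) (S : Scheme.{u})

/-- the chart `Spec ℤ[n] ⟶ P^N_ℤ` for an enumeration `e : n ≃ Fin N`. -/
noncomputable def chartZ : Spec (CommRingCat.of (MvPolynomial n (ULift.{u} ℤ))) ⟶
    CohB1.ProjSpace N (ULift.{u} ℤ) :=
  (Scheme.Spec.mapIso
    (MvPolynomial.renameEquiv (ULift.{u} ℤ) e).toRingEquiv.toCommRingCatIso.op).inv ≫
      chartK (ULift.{u} ℤ) N

instance : IsOpenImmersion (chartZ e) := by
  unfold chartZ
  infer_instance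

/-- the standard open chart `𝔸ⁿ_S ⟶ P^N_S`. -/
noncomputable def chart : 𝔸(n; S) ⟶ CohB1.ProjSpaceOver N S :=
  pullback.lift (AffineSpace.toSpecMvPoly n S ≫ chartZ e) (𝔸(n; S) ↘ S)
    (specULiftZIsTerminal.hom_ext _ _)

@[reassoc (attr := simp)]
lemma chart_toBase : chart e S ≫ CohB1.ProjSpaceOver.toBase N S = 𝔸(n; S) ↘ S :=
  pullback.lift_snd _ _ _

lemma isPullback_chart : IsPullback (AffineSpace.toSpecMvPoly n S) (chart e S) (chartZ e)
    (pullback.fst (CohB1.ProjSpace.toSpec N (ULift.{u} ℤ)) (specULiftZIsTerminal.from S)) := by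
  refine IsPullback.of_bot ?_ (pullback.lift_fst _ _ _).symm
    (IsPullback.of_hasPullback (CohB1.ProjSpace.toSpec N (ULift.{u} ℤ))
      (specULiftZIsTerminal.from S))
  have h0 : IsPullback (pullback.fst (terminal.from S) (terminal.from
      (Spec (CommRingCat.of (MvPolynomial n (ULift.{u} ℤ))))))
      (pullback.snd _ _) (terminal.from S) (terminal.from _) := IsPullback.of_hasPullback _ _
  let i : ⊤_ Scheme.{u} ≅ Spec (CommRingCat.of (ULift.{u} ℤ)) :=
    terminalIsTerminal.uniqueUpToIso specULiftZIsTerminal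
  have h1 := IsPullback.of_iso h0 (Iso.refl _) (Iso.refl _) (Iso.refl _) i
    (fst' := pullback.fst _ _) (snd' := pullback.snd _ _)
    (f' := specULiftZIsTerminal.from S) (g' := specULiftZIsTerminal.from _) (by simp) (by simp)
    (specULiftZIsTerminal.hom_ext _ _) (specULiftZIsTerminal.hom_ext _ _)
  have h2 : IsPullback (AffineSpace.toSpecMvPoly n S) (𝔸(n; S) ↘ S)
      (specULiftZIsTerminal.from _) (specULiftZIsTerminal.from S) := h1.flip
  have e1 : chart e S ≫ pullback.snd (CohB1.ProjSpace.toSpec N (ULift.{u} ℤ))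
      (specULiftZIsTerminal.from S) = 𝔸(n; S) ↘ S := pullback.lift_snd _ _ _
  have e2 : chartZ e ≫ CohB1.ProjSpace.toSpec N (ULift.{u} ℤ) = specULiftZIsTerminal.from _ :=
    specULiftZIsTerminal.hom_ext _ _
  rw [e1, e2]
  exact h2

instance : IsOpenImmersion (chart e S) :=
  MorphismProperty.of_isPullback (P := @IsOpenImmersion) (isPullback_chart e S) inferInstance

end overS

end Groth.Agent.H20.Chow
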