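import Mathlib
import Groth.Prelude.Def_CohB1
import Groth.Agent.S1616
import Groth.Agent.H97.ProjProper

/-!
# Finite fibre products of projective spaces embed in a projective space
-/

set_option autoImplicit false
universe u
open CategoryTheory CategoryTheory.Limits AlgebraicGeometry TopologicalSpace

namespace Groth.Agent.H20.Chow

/-- A finite product of projective spaces over `S`, together with a Segre embedding. -/
structure MultiProj {ι : Type*} (N : ι → ℕ) (J : Finset ι) (S : Scheme.{u}) where
  P : Scheme.{u}
  p : P ⟶ S
  M : ℕ
  σ : P ⟶ CohB1.ProjSpaceOver M S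
  clσ : IsClosedImmersion σ
  hσ : σ ≫ CohB1.ProjSpaceOver.toBase M S = p
  q : ∀ i, i ∈ J → (P ⟶ CohB1.ProjSpaceOver (N i) S)
  hq : ∀ i hi, q i hi ≫ CohB1.ProjSpaceOver.toBase (N i) S = p
  lift : ∀ (T : Scheme.{u}) (t : ∀ i, i ∈ J → (T ⟶ CohB1.ProjSpaceOver (N i) S)) (b : T ⟶ S),
    (∀ i hi, t i hi ≫ CohB1.ProjSpaceOver.toBase (N i) S = b) →
      ∃ τ : T ⟶ P, τ ≫ p = b ∧ ∀ i hi, τ ≫ q i hi = t i hi

namespace MultiProj

variable {ι : Type*} {N : ι → ℕ} {J : Finset ι} {S : Scheme.{u}} (A : MultiProj N J S)

instance : IsClosedImmersion A.σ := A.clσ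

instance : IsProper A.p := by
  rw [← A.hσ]
  have := Groth.Agent.H97.ProjProper.isProper_toBase A.M S
  infer_instance

end MultiProj

theorem nonempty_multiProj {ι : Type*} [DecidableEq ι] (N : ι → ℕ) (S : Scheme.{u})
    (J : Finset ι) (hJ : J.Nonempty) : Nonempty (MultiProj N J S) := by
  induction hJ using Finset.Nonempty.cons_induction with
  | singleton a =>
    refine ⟨{ P := CohB1.ProjSpaceOver (N a) S
              p := CohB1.ProjSpaceOver.toBase (N a) S
              M := N a
              σ := 𝟙 _
              clσ := inferInstance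
              hσ := Category.id_comp _
              q := fun i hi => eqToHom (by rw [Finset.mem_singleton.mp hi])
              hq := ?_
              lift := ?_ }⟩
    · intro i hi
      obtain rfl := Finset.mem_singleton.mp hi
      simp
    · intro T t b ht
      refine ⟨t a (Finset.mem_singleton_self a), ht _ _, ?_⟩
      intro i hi
      obtain rfl := Finset.mem_singleton.mp hi
      simp
  | cons a J ha hJ ih =>
    obtain ⟨A⟩ := ih
    obtain ⟨s, hs, hs'⟩ := Groth.Agent.S1616.result S (N a) A.M
    have hcomp : MorphismProperty.IsStableUnderComposition @IsClosedImmersion :=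
      ⟨fun f g hf hg => by
        have : IsClosedImmersion f := hf
        have : IsClosedImmersion g := hg
        infer_instance⟩
    have hm : IsClosedImmersion (pullback.map (CohB1.ProjSpaceOver.toBase (N a) S) A.p
        (CohB1.ProjSpaceOver.toBase (N a) S) (CohB1.ProjSpaceOver.toBase A.M S) (𝟙 _) A.σ (𝟙 _)
        ((Category.comp_id _).trans (Category.id_comp _).symm)
        ((Category.comp_id _).trans A.hσ.symm)) :=
      MorphismProperty.pullbackMap (P := @IsClosedImmersion) (inferInstanceAs (IsClosedImmersion (𝟙 _)))
        A.clσ (Category.id_comp _).symm A.hσ.symm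
    refine ⟨{ P := pullback (CohB1.ProjSpaceOver.toBase (N a) S) A.p
              p := pullback.fst _ _ ≫ CohB1.ProjSpaceOver.toBase (N a) S
              M := N a * A.M + N a + A.M
              σ := pullback.map (CohB1.ProjSpaceOver.toBase (N a) S) A.p
                (CohB1.ProjSpaceOver.toBase (N a) S) (CohB1.ProjSpaceOver.toBase A.M S) (𝟙 _) A.σ (𝟙 _)
                ((Category.comp_id _).trans (Category.id_comp _).symm)
                ((Category.comp_id _).trans A.hσ.symm) ≫ s
              clσ := inferInstance
              hσ := ?_
              q := fun i hi => if h : i = a then pullback.fst _ _ ≫ eqToHom (by rw [h]) else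
                pullback.snd _ _ ≫ A.q i ((Finset.mem_cons.mp hi).resolve_left h)
              hq := ?_
              lift := ?_ }⟩
    · rw [Category.assoc, hs']
      erw [pullback.lift_fst_assoc]
      rw [Category.comp_id]
    · intro i hi
      by_cases h : i = a
      · subst h
        simp
      · rw [dif_neg h, Category.assoc, A.hq, pullback.condition]
    · intro T t b ht
      obtain ⟨τ, hτ, hτ'⟩ := A.lift T (fun i hi => t i (Finset.mem_cons.mpr (Or.inr hi))) b
        (fun i hi => ht i _)
      refine ⟨pullback.lift (t a (Finset.mem_cons_self a J)) τ ((ht _ _).trans hτ.symm), ?_, ?_⟩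
      · rw [pullback.lift_fst_assoc, ht]
      · intro i hi
        by_cases h : i = a
        · subst h
          simp only [dite_true, eqToHom_refl, Category.comp_id]
          exact pullback.lift_fst _ _ _
        · rw [dif_neg h, pullback.lift_snd_assoc, hτ']

end Groth.Agent.H20.Chow
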