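import Groth.Agent.H20.Chow.Key
import Groth.Agent.H20.Chow.AffChart
import Groth.Agent.H20.Chow.MultiSegre
import Groth.Agent.H20.DisjointAffine
import Groth.Agent.H6.QuasiAffineImm

/-!
# Chow's lemma: assembly
-/

set_option autoImplicit false
universe u
open CategoryTheory CategoryTheory.Limits AlgebraicGeometry TopologicalSpace

namespace Groth.Agent.H20.Chow

/-- An affine scheme locally of finite type over `S` immerses into a projective space over `S`. -/
theorem exists_immersion_projSpaceOver {A S : Scheme.{u}} (g : A ⟶ S) [LocallyOfFiniteType g]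
    [A.IsQuasiAffine] :
    ∃ (N : ℕ) (i : A ⟶ CohB1.ProjSpaceOver N S), IsImmersion i ∧
      i ≫ CohB1.ProjSpaceOver.toBase N S = g := by
  obtain ⟨n, i, hi, hig⟩ := Groth.Agent.H6.QuasiAffineImm.exists_immersion_affineSpace g
  refine ⟨n, i ≫ chart (Equiv.ulift : ULift.{u} (Fin n) ≃ Fin n) S, inferInstance, ?_⟩
  rw [Category.assoc, chart_toBase, hig]

/-- Existence of generic points of the irreducible components. -/
theorem exists_generic_points (X : Scheme.{u})
    (hirr : (irreducibleComponents (X : Type u)).Finite) :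
    ∃ (n : ℕ) (η : Fin n → X), (∀ i, closure ({η i} : Set X) ∈ irreducibleComponents (X : Type u)) ∧
      ∀ Z ∈ irreducibleComponents (X : Type u), ∃ i, closure ({η i} : Set X) = Z := by
  have : Finite (irreducibleComponents (X : Type u)) := hirr
  obtain ⟨n, ⟨e⟩⟩ := Finite.exists_equiv_fin (irreducibleComponents (X : Type u))
  have hg : ∀ Z : irreducibleComponents (X : Type u), ∃ x : X, IsGenericPoint x Z.1 := fun Z =>
    QuasiSober.sober Z.2.1 (isClosed_of_mem_irreducibleComponents Z.1 Z.2)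
  choose g hg using hg
  refine ⟨n, fun i => g (e.symm i), fun i => ?_, fun Z hZ => ⟨e ⟨Z, hZ⟩, ?_⟩⟩
  · rw [(hg (e.symm i)).def]
    exact (e.symm i).2
  · rw [(hg _).def]
    simp

theorem dense_of_generic_points {X : Scheme.{u}} {n : ℕ} (η : Fin n → X)
    (hη : ∀ Z ∈ irreducibleComponents (X : Type u), ∃ i, closure ({η i} : Set X) = Z)
    (U : Set X) (hU : ∀ i, η i ∈ U) : Dense U := by
  rw [dense_iff_closure_eq, Set.eq_univ_iff_forall]
  intro x
  have hx : x ∈ ⋃₀ irreducibleComponents (X : Type u) := by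
    rw [sUnion_irreducibleComponents]; trivial
  obtain ⟨Z, hZ, hxZ⟩ := hx
  obtain ⟨i, rfl⟩ := hη Z hZ
  exact closure_mono (Set.singleton_subset_iff.mpr (hU i)) hxZ

theorem compactSpace_finset_inf {X : Scheme.{u}} [CompactSpace X] [QuasiSeparatedSpace X]
    {σ : Type*} (t : Finset σ) (V : σ → X.Opens) (hV : ∀ x ∈ t, IsCompact (V x : Set X)) :
    IsCompact ((t.inf V : X.Opens) : Set X) := by
  refine Finset.inf_induction (p := fun W : X.Opens => IsCompact (W : Set X)) ?_ ?_ hV
  · exact isCompact_univ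
  · intro a ha b hb
    exact QuasiSeparatedSpace.inter_isCompact _ _ a.2 ha b.2 hb

theorem chow_of_cover {X S : Scheme.{u}} (f : X ⟶ S) [IsSeparated f] [LocallyOfFiniteType f]
    [CompactSpace X] [QuasiSeparatedSpace X]
    {σ : Type u} [DecidableEq σ] (t : Finset σ) (ht : t.Nonempty) (V : σ → X.Opens)
    (hV : ∀ x, IsAffineOpen (V x))
    (hcov : ∀ y : X, ∃ x ∈ t, y ∈ V x) (hd : Dense ((t.inf V : X.Opens) : Set X)) :
    ∃ (n : ℕ) (X' : Scheme.{u}) (π : X' ⟶ X) (j : X' ⟶ CohB1.ProjSpaceOver n S),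
      IsImmersion j ∧ j ≫ CohB1.ProjSpaceOver.toBase n S = π ≫ f ∧ IsProper π ∧ Surjective π ∧
      ∃ U : X.Opens, Dense (U : Set X) ∧ IsIso (π ∣_ U) := by
  have hAff : ∀ x, IsAffine (V x : Scheme.{u}) := fun x => hV x
  have himm : ∀ x, ∃ (N : ℕ) (i : (V x : Scheme.{u}) ⟶ CohB1.ProjSpaceOver N S), IsImmersion i ∧
      i ≫ CohB1.ProjSpaceOver.toBase N S = (V x).ι ≫ f := fun x =>
    exists_immersion_projSpaceOver ((V x).ι ≫ f)
  choose N φ hφimm hφ using himm
  obtain ⟨A⟩ := nonempty_multiProj N S t ht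
  let U : X.Opens := t.inf V
  have hUle : ∀ x ∈ t, U ≤ V x := fun x hx => Finset.inf_le hx
  obtain ⟨τ, hτ, hτ'⟩ := A.lift (U : Scheme.{u}) (fun x hx => X.homOfLE (hUle x hx) ≫ φ x)
    (U.ι ≫ f) (fun x hx => by rw [Category.assoc, hφ, X.homOfLE_ι_assoc])
  let D : Setup.{u} := { f := f, p := A.p, U := U, φ := τ, hφ := hτ }
  have : IsSeparated D.f := ‹IsSeparated f›
  have : IsProper D.p := inferInstanceAs (IsProper A.p)
  have hUc : CompactSpace (U : Scheme.{u}) :=
    isCompact_iff_compactSpace.mp (compactSpace_finset_inf t V (fun x _ => (hV x).isCompact))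
  have hqs : QuasiSeparatedSpace (pullback f A.p : Scheme.{u}) :=
    quasiSeparatedSpace_of_quasiSeparated (pullback.fst f A.p)
  have : QuasiCompact D.ψ := by
    have : CompactSpace (D.U : Scheme.{u}) := hUc
    have : QuasiSeparatedSpace (pullback D.f D.p : Scheme.{u}) := hqs
    infer_instance
  let C : t → Chart D := fun x =>
    { Ui := V x.1
      hU := hUle x.1 x.2
      Pi := CohB1.ProjSpaceOver (N x.1) S
      pi := CohB1.ProjSpaceOver.toBase (N x.1) S
      sep := by
        have := Groth.Agent.H97.ProjProper.isProper_toBase (N x.1) S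
        infer_instance
      q := A.q x.1 x.2
      hq := A.hq x.1 x.2
      φi := φ x.1
      imm := hφimm x.1
      hφi := hφ x.1
      hcompat := hτ' x.1 x.2 }
  have hcovC : ⨆ x, (C x).Ui = ⊤ := by
    rw [eq_top_iff]
    intro y _
    obtain ⟨x, hx, hy⟩ := hcov y
    exact Opens.mem_iSup.mpr ⟨⟨x, hx⟩, hy⟩
  obtain ⟨h1, h2, h3, h4, h5⟩ := D.key hd C hcovC
  refine ⟨A.M, D.X', D.π, D.h ≫ A.σ, ?_, ?_, h1, h2, U, hd, h3⟩
  · infer_instance
  · rw [Category.assoc, A.hσ]
    exact h5

end Groth.Agent.H20.Chow
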