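import Groth.Agent.H20.Chow.GraphProps

/-!
# Chow's lemma: charts
-/

set_option autoImplicit false
set_option linter.unusedSectionVars false
universe u
open CategoryTheory CategoryTheory.Limits AlgebraicGeometry TopologicalSpace

namespace Groth.Agent.H20.Chow

/-- A chart for the graph closure construction. -/
structure Chart (D : Setup.{u}) where
  Ui : D.X.Opens
  hU : D.U ≤ Ui
  Pi : Scheme.{u}
  pi : Pi ⟶ D.S
  sep : IsSeparated pi
  q : D.P ⟶ Pi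
  hq : q ≫ pi = D.p
  φi : (Ui : Scheme.{u}) ⟶ Pi
  imm : IsImmersion φi
  hφi : φi ≫ pi = Ui.ι ≫ D.f
  hcompat : D.φ ≫ q = D.X.homOfLE hU ≫ φi

namespace Chart

variable {D : Setup.{u}} (C : Chart D)

instance : IsSeparated C.pi := C.sep
instance : IsImmersion C.φi := C.imm

/-- The open of `Pi` in which `Ui` is closed. -/
noncomputable def W : C.Pi.Opens := C.φi.coborderRange

/-- The closed immersion `Ui ⟶ W`. -/
noncomputable def c : (C.Ui : Scheme.{u}) ⟶ (C.W : Scheme.{u}) := C.φi.liftCoborder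

instance : IsClosedImmersion C.c := inferInstanceAs (IsClosedImmersion C.φi.liftCoborder)

@[reassoc (attr := simp)]
lemma c_ι : C.c ≫ C.W.ι = C.φi := C.φi.liftCoborder_ι

/-- The open `V = q⁻¹(W)` of `P`. -/
noncomputable def V : D.P.Opens := C.q ⁻¹ᵁ C.W

/-- The open `h⁻¹(V)` of `X'`. -/
noncomputable def Y : D.X'.Opens := D.h ⁻¹ᵁ C.V

/-- The open `π⁻¹(Ui)` of `X'`. -/
noncomputable def Xi : D.X'.Opens := D.π ⁻¹ᵁ C.Ui

/-- The restriction of `π` over `Ui`. -/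
noncomputable def πi : (C.Xi : Scheme.{u}) ⟶ (C.Ui : Scheme.{u}) := D.π ∣_ C.Ui

@[reassoc (attr := simp)]
lemma πi_ι : C.πi ≫ C.Ui.ι = C.Xi.ι ≫ D.π := morphismRestrict_ι _ _

/-- The restriction of `h` over `V`. -/
noncomputable def hY : (C.Y : Scheme.{u}) ⟶ (C.V : Scheme.{u}) := D.h ∣_ C.V

@[reassoc (attr := simp)]
lemma hY_ι : C.hY ≫ C.V.ι = C.Y.ι ≫ D.h := morphismRestrict_ι _ _

/-- The restriction of `q` over `W`. -/
noncomputable def qV : (C.V : Scheme.{u}) ⟶ (C.W : Scheme.{u}) := C.q ∣_ C.W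

@[reassoc (attr := simp)]
lemma qV_ι : C.qV ≫ C.W.ι = C.V.ι ≫ C.q := morphismRestrict_ι _ _

variable [QuasiCompact D.ψ]

/-- The inclusion `U ⟶ π⁻¹(Ui)`. -/
noncomputable def jXi : (D.U : Scheme.{u}) ⟶ (C.Xi : Scheme.{u}) :=
  IsOpenImmersion.lift C.Xi.ι D.j (by
    rw [Scheme.Opens.range_ι]
    rintro _ ⟨x, rfl⟩
    change D.π (D.j x) ∈ C.Ui
    have : (D.j ≫ D.π) x ∈ C.Ui := by rw [Setup.j_π]; exact C.hU x.2
    exact this)

@[reassoc (attr := simp)]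
lemma jXi_ι : C.jXi ≫ C.Xi.ι = D.j := IsOpenImmersion.lift_fac _ _ _

instance : IsSchemeTheoreticallyDominant C.jXi :=
  schDominant_of_comp_ι D.j _ C.jXi C.jXi_ι

lemma jXi_πi : C.jXi ≫ C.πi = D.X.homOfLE C.hU := by
  rw [← cancel_mono C.Ui.ι, Category.assoc, πi_ι, jXi_ι_assoc, Setup.j_π,
    Scheme.homOfLE_ι]

/-- Claim A (morphism form): on `π⁻¹(Ui)` the maps `φi ∘ π` and `q ∘ h` agree. -/
theorem claimA_hom : C.πi ≫ C.φi = C.Xi.ι ≫ D.h ≫ C.q := by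
  apply ext_of_schDominant C.pi ?_ C.jXi ?_
  · rw [Category.assoc, C.hφi, πi_ι_assoc, Category.assoc, Category.assoc, C.hq,
      Setup.h_p]
  · rw [reassoc_of% C.jXi_πi, jXi_ι_assoc, Setup.j_h_assoc, C.hcompat]

/-- Claim A: `π⁻¹(Ui) ≤ h⁻¹(V)`. -/
theorem Xi_le_Y : C.Xi ≤ C.Y := by
  intro x hx
  let x' : (C.Xi : Scheme.{u}) := ⟨x, hx⟩
  change C.q (D.h x) ∈ C.W
  have h1 : (C.Xi.ι ≫ D.h ≫ C.q) x' = C.q (D.h x) := rfl
  rw [← h1, ← C.claimA_hom]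
  change C.φi (C.πi x') ∈ C.φi.coborderRange
  exact subset_coborder ⟨_, rfl⟩

end Chart

end Groth.Agent.H20.Chow
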