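import Groth.Agent.H20.Chow.Chart

/-!
# Chow's lemma: charts, second inclusion
-/

set_option autoImplicit false
set_option linter.unusedSectionVars false
universe u
open CategoryTheory CategoryTheory.Limits AlgebraicGeometry TopologicalSpace

namespace Groth.Agent.H20.Chow

namespace Chart

variable {D : Setup.{u}} (C : Chart D) [QuasiCompact D.ψ]

/-- The inclusion `U ⟶ h⁻¹(V)`. -/
noncomputable def jY : (D.U : Scheme.{u}) ⟶ (C.Y : Scheme.{u}) :=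
  IsOpenImmersion.lift C.Y.ι D.j (by
    rw [Scheme.Opens.range_ι]
    rintro _ ⟨x, rfl⟩
    apply C.Xi_le_Y
    change D.π (D.j x) ∈ C.Ui
    have : (D.j ≫ D.π) x ∈ C.Ui := by rw [Setup.j_π]; exact C.hU x.2
    exact this)

@[reassoc (attr := simp)]
lemma jY_ι : C.jY ≫ C.Y.ι = D.j := IsOpenImmersion.lift_fac _ _ _

instance : IsSchemeTheoreticallyDominant C.jY :=
  schDominant_of_comp_ι D.j _ C.jY C.jY_ι

/-- The map `h⁻¹(V) ⟶ W`. -/
noncomputable def bY : (C.Y : Scheme.{u}) ⟶ (C.W : Scheme.{u}) := C.hY ≫ C.qV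

@[reassoc (attr := simp)]
lemma bY_ι : C.bY ≫ C.W.ι = C.Y.ι ≫ D.h ≫ C.q := by
  rw [bY, Category.assoc, qV_ι, hY_ι_assoc]

lemma jY_bY : C.jY ≫ C.bY = D.X.homOfLE C.hU ≫ C.c := by
  rw [← cancel_mono C.W.ι, Category.assoc, bY_ι, jY_ι_assoc, Setup.j_h_assoc, C.hcompat,
    Category.assoc, c_ι]

theorem exists_u : ∃ u : (C.Y : Scheme.{u}) ⟶ (C.Ui : Scheme.{u}), u ≫ C.c = C.bY :=
  exists_lift_of_schDominant C.bY C.c C.jY (D.X.homOfLE C.hU) C.jY_bY.symm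

/-- The map `h⁻¹(V) ⟶ Ui`. -/
noncomputable def u : (C.Y : Scheme.{u}) ⟶ (C.Ui : Scheme.{u}) := C.exists_u.choose

@[reassoc (attr := simp)]
lemma u_c : C.u ≫ C.c = C.bY := C.exists_u.choose_spec

lemma jY_u : C.jY ≫ C.u = D.X.homOfLE C.hU := by
  rw [← cancel_mono C.c, Category.assoc, u_c, jY_bY]

lemma u_φi : C.u ≫ C.φi = C.Y.ι ≫ D.h ≫ C.q := by
  rw [← c_ι, u_c_assoc, bY_ι]

/-- Claim B (morphism form). -/
theorem claimB_hom [IsSeparated D.f] : C.Y.ι ≫ D.π = C.u ≫ C.Ui.ι := by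
  apply ext_of_schDominant D.f ?_ C.jY ?_
  · rw [Category.assoc, Category.assoc, ← C.hφi, reassoc_of% C.u_φi, C.hq, Setup.h_p]
  · rw [jY_ι_assoc, Setup.j_π, reassoc_of% C.jY_u, Scheme.homOfLE_ι]

/-- Claim B: `h⁻¹(V) ≤ π⁻¹(Ui)`. -/
theorem Y_le_Xi [IsSeparated D.f] : C.Y ≤ C.Xi := by
  intro y hy
  let y' : (C.Y : Scheme.{u}) := ⟨y, hy⟩
  change D.π y ∈ C.Ui
  have h1 : (C.Y.ι ≫ D.π) y' = D.π y := rfl
  rw [← h1, C.claimB_hom]
  exact (C.u y').2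

theorem Y_eq_Xi [IsSeparated D.f] : C.Y = C.Xi := le_antisymm C.Y_le_Xi C.Xi_le_Y

end Chart

end Groth.Agent.H20.Chow
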