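import Groth.Agent.H20.Chow.ChartB

/-!
# Chow's lemma: charts, the closed immersion
-/

set_option autoImplicit false
set_option linter.unusedSectionVars false
universe u
open CategoryTheory CategoryTheory.Limits AlgebraicGeometry TopologicalSpace

namespace Groth.Agent.H20.Chow

namespace Chart

variable {D : Setup.{u}} (C : Chart D)

/-- `G = Ui ×_W V`. -/
noncomputable def G : Scheme.{u} := pullback C.c C.qV

/-- The closed immersion `G ⟶ V`. -/
noncomputable def g : C.G ⟶ (C.V : Scheme.{u}) := pullback.snd C.c C.qV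

set_option backward.isDefEq.respectTransparency.types false in
instance : IsClosedImmersion C.g :=
  inferInstanceAs (IsClosedImmersion (pullback.snd C.c C.qV))

/-- The projection `G ⟶ Ui`. -/
noncomputable def gU : C.G ⟶ (C.Ui : Scheme.{u}) := pullback.fst C.c C.qV

lemma gU_c : C.gU ≫ C.c = C.g ≫ C.qV := pullback.condition

lemma gU_f : C.gU ≫ C.Ui.ι ≫ D.f = C.g ≫ C.V.ι ≫ D.p := by
  rw [← C.hφi, ← c_ι, Category.assoc, reassoc_of% C.gU_c, qV_ι_assoc, C.hq]

/-- The monomorphism `G ⟶ X ×_S P`. -/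
noncomputable def γ : C.G ⟶ pullback D.f D.p :=
  pullback.lift (C.gU ≫ C.Ui.ι) (C.g ≫ C.V.ι) (by
    rw [Category.assoc, Category.assoc, C.gU_f])

@[reassoc (attr := simp)]
lemma γ_fst : C.γ ≫ pullback.fst D.f D.p = C.gU ≫ C.Ui.ι := pullback.lift_fst _ _ _

@[reassoc (attr := simp)]
lemma γ_snd : C.γ ≫ pullback.snd D.f D.p = C.g ≫ C.V.ι := pullback.lift_snd _ _ _

instance : Mono C.γ := by
  constructor
  intro T t1 t2 h
  have h1 : t1 ≫ C.gU = t2 ≫ C.gU := by
    rw [← cancel_mono C.Ui.ι, Category.assoc, Category.assoc, ← γ_fst, reassoc_of% h]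
  have h2 : t1 ≫ C.g = t2 ≫ C.g := by
    rw [← cancel_mono C.V.ι, Category.assoc, Category.assoc, ← γ_snd, reassoc_of% h]
  exact pullback.hom_ext h1 h2

variable [QuasiCompact D.ψ]

/-- The map `h⁻¹(V) ⟶ G`. -/
noncomputable def κ : (C.Y : Scheme.{u}) ⟶ C.G :=
  pullback.lift C.u C.hY (by rw [u_c, bY])

@[reassoc (attr := simp)]
lemma κ_g : C.κ ≫ C.g = C.hY := pullback.lift_snd _ _ _

@[reassoc (attr := simp)]
lemma κ_gU : C.κ ≫ C.gU = C.u := pullback.lift_fst _ _ _

variable [IsSeparated D.f]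

lemma κ_γ : C.κ ≫ C.γ = C.Y.ι ≫ D.ι' := by
  apply pullback.hom_ext
  · rw [Category.assoc, γ_fst, κ_gU_assoc, ← C.claimB_hom, Category.assoc]
    rfl
  · rw [Category.assoc, γ_snd, κ_g_assoc, hY_ι, Category.assoc]
    rfl

instance : IsImmersion C.κ := by
  have : IsImmersion (C.κ ≫ C.γ) := by rw [κ_γ]; infer_instance
  exact IsImmersion.of_comp C.κ C.γ

lemma range_κ : Set.range C.κ = C.γ ⁻¹' (Set.range D.ι') := by
  ext z
  constructor
  · rintro ⟨y, rfl⟩
    refine ⟨C.Y.ι y, ?_⟩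
    rw [← Scheme.Hom.comp_apply, ← κ_γ, Scheme.Hom.comp_apply]
  · rintro ⟨x', hx'⟩
    have hx'Y : x' ∈ C.Y := by
      change D.h x' ∈ C.V
      have e1 : D.h x' = (pullback.snd D.f D.p) (D.ι' x') := rfl
      rw [e1, hx', ← Scheme.Hom.comp_apply, γ_snd, Scheme.Hom.comp_apply]
      exact (C.g z).2
    let y : (C.Y : Scheme.{u}) := ⟨x', hx'Y⟩
    refine ⟨y, ?_⟩
    apply C.γ.injective
    rw [← Scheme.Hom.comp_apply, κ_γ, Scheme.Hom.comp_apply]
    exact hx'

instance : IsClosedImmersion C.κ := by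
  apply IsClosedImmersion.of_isPreimmersion
  rw [range_κ]
  exact (D.ι'.isClosedEmbedding.isClosed_range).preimage C.γ.continuous

/-- Claim C: `h` restricted over `V` is a closed immersion. -/
instance isClosedImmersion_hY : IsClosedImmersion C.hY := by
  rw [← κ_g]
  infer_instance

end Chart

end Groth.Agent.H20.Chow
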