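import Groth.Agent.H20.Chow.DenseStrong
import Groth.Agent.H22.DVRGen
import Groth.Agent.H22.DVRUC

/-!
# The refined Noetherian valuative criterion for properness (Stacks 0CM5)
-/

set_option autoImplicit false
universe u
open CategoryTheory CategoryTheory.Limits AlgebraicGeometry TopologicalSpace

namespace Groth.Agent.H20.Chow

open Groth.Agent.H22

theorem dense_preimage_of_isIso_restrict {X' X : Scheme.{u}} (π : X' ⟶ X) (V : X.Opens)
    (hiso : IsIso (π ∣_ V)) (hV' : Dense ((π ⁻¹ᵁ V : X'.Opens) : Set X'))
    (R : Set X) (hR : Dense R) : Dense (π ⁻¹' R) := by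
  rw [dense_iff_inter_open]
  intro W hW hWne
  obtain ⟨w, hwW, hwV⟩ := hV'.inter_open_nonempty W hW hWne
  -- the open `W ∩ π⁻¹V` as an open of the open subscheme
  let O : (π ⁻¹ᵁ V : X'.Opens).toScheme.Opens := (π ⁻¹ᵁ V).ι ⁻¹ᵁ ⟨W, hW⟩
  have hO₂ : IsOpen ((π ∣_ V) '' (O : Set (π ⁻¹ᵁ V : X'.Opens).toScheme)) :=
    (π ∣_ V).isOpenEmbedding.isOpenMap _ O.2
  have hO₃ : IsOpen (V.ι '' ((π ∣_ V) '' (O : Set (π ⁻¹ᵁ V : X'.Opens).toScheme))) :=
    V.ι.isOpenEmbedding.isOpenMap _ hO₂
  have hne : (V.ι '' ((π ∣_ V) '' (O : Set (π ⁻¹ᵁ V : X'.Opens).toScheme))).Nonempty :=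
    ⟨_, ⟨_, ⟨⟨w, hwV⟩, hwW, rfl⟩, rfl⟩⟩
  obtain ⟨r, ⟨_, ⟨o, ho, rfl⟩, rfl⟩, hrR⟩ := hR.inter_open_nonempty _ hO₃ hne
  refine ⟨(π ⁻¹ᵁ V).ι o, ho, ?_⟩
  change π ((π ⁻¹ᵁ V).ι o) ∈ R
  have e : ((π ∣_ V) ≫ V.ι) o = ((π ⁻¹ᵁ V).ι ≫ π) o := by rw [morphismRestrict_ι]
  rw [Scheme.Hom.comp_apply, Scheme.Hom.comp_apply] at e
  rw [← e]
  exact hrR

set_option maxHeartbeats 800000 in
theorem universallyClosed_of_dvr_dense {X S U : Scheme.{u}} [IsNoetherian S] (f : X ⟶ S)
    [IsSeparated f] [LocallyOfFiniteType f] [QuasiCompact f] (h : U ⟶ X)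
    [LocallyOfFiniteType h] [QuasiCompact h] (hd : DenseRange h.base)
    (H : ∀ (A : Type u) [CommRing A] [IsDomain A] [IsDiscreteValuationRing A]
      (u : Spec (CommRingCat.of (FractionRing A)) ⟶ U) (y : Spec (CommRingCat.of A) ⟶ S),
      u ≫ h ≫ f = Spec.map (CommRingCat.ofHom (algebraMap A (FractionRing A))) ≫ y →
        ∃ l : Spec (CommRingCat.of A) ⟶ X, l ≫ f = y ∧
          Spec.map (CommRingCat.ofHom (algebraMap A (FractionRing A))) ≫ l = u ≫ h) :
    UniversallyClosed f := by
  have hXN : IsNoetherian X :=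
    { __ := LocallyOfFiniteType.isLocallyNoetherian f
      __ := QuasiCompact.compactSpace_of_compactSpace f }
  obtain ⟨n, X', π, j, hj, hjπ, hπ, hπs, V, hV, hiso, hV'⟩ :=
    chow_dense' f finite_irreducibleComponents_of_isNoetherian
  suffices UniversallyClosed (π ≫ f) from UniversallyClosed.of_comp_surjective π f
  have hX'N : IsNoetherian X' :=
    { __ := LocallyOfFiniteType.isLocallyNoetherian π
      __ := QuasiCompact.compactSpace_of_compactSpace π }
  have hjqc : QuasiCompact j := inferInstance
  let o : X' ⟶ j.image := j.toImage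
  have ho : IsOpenImmersion o := inferInstanceAs (IsOpenImmersion j.toImage)
  have hod : IsDominant o := inferInstanceAs (IsDominant j.toImage)
  have hpT := Groth.Agent.H97.ProjProper.isProper_toBase n S
  let f'' : j.image ⟶ S := j.imageι ≫ CohB1.ProjSpaceOver.toBase n S
  have hf'' : IsProper f'' := inferInstance
  have hof : o ≫ f'' = π ≫ f := by
    change j.toImage ≫ j.imageι ≫ _ = _
    rw [← Category.assoc, j.toImage_imageι, hjπ]
  have hX''N : IsLocallyNoetherian j.image := LocallyOfFiniteType.isLocallyNoetherian f''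
  have hsurj : Function.Surjective o.base := by
    by_contra hns
    rw [Function.Surjective] at hns
    push Not at hns
    obtain ⟨x, hx⟩ := hns
    let h' : pullback h π ⟶ X' := pullback.snd h π
    have hd' : DenseRange h'.base := by
      rw [DenseRange, Scheme.Pullback.range_snd]
      exact dense_preimage_of_isIso_restrict π V hiso hV' _ hd
    have hd'' : DenseRange (h' ≫ o).base := by
      rw [Scheme.Hom.comp_base, TopCat.coe_comp]
      exact o.denseRange.comp hd' o.continuous
    obtain ⟨u', hu'⟩ := DVRGen.exists_specializes_of_denseRange (h' ≫ o) hd'' x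
    have hne : x ≠ (h' ≫ o).base u' := by
      intro e
      exact hx (h'.base u') (by rw [e, Scheme.Hom.comp_apply])
    obtain ⟨A, g, hA, hcl, hcomm⟩ :=
      DVRSpec.exists_dvr_through_specialization (h' ≫ o) u' x hu' hne
    have hι := DVRGen.specMap_algebraMap_fractionRing A
    set e := Spec.map (CommRingCat.ofHom
      ((FractionRing.algEquiv A ((pullback h π).residueField u')).symm :
        (pullback h π).residueField u' →+* FractionRing A)) with he
    set κι := (pullback h π).fromSpecResidueField u' with hκι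
    have hcond : pullback.fst h π ≫ h = h' ≫ π := pullback.condition
    have c1 : e ≫ κι ≫ h' ≫ o =
        Spec.map (CommRingCat.ofHom (algebraMap A (FractionRing A))) ≫ g := by
      rw [hι, Category.assoc, hcomm]
    have c2 : (e ≫ κι ≫ pullback.fst h π) ≫ h ≫ f = (e ≫ κι ≫ h' ≫ o) ≫ f'' := by
      simp only [Category.assoc]
      rw [hof, reassoc_of% hcond]
    -- lift to `X`
    obtain ⟨l, hl1, hl2⟩ := H A (e ≫ κι ≫ pullback.fst h π) (g ≫ f'') (by
      rw [c2, c1, Category.assoc])
    -- lift to `X'`
    obtain ⟨l', hl'1, hl'2⟩ := DVRUC.dvrExist_of_universallyClosed π A (e ≫ κι ≫ h') l (by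
      rw [hl2]
      simp only [Category.assoc]
      rw [hcond])
    have key : l' ≫ o = g := by
      have hsq : CommSq (e ≫ κι ≫ h' ≫ o)
          (Spec.map (CommRingCat.ofHom (algebraMap A (FractionRing A)))) f'' (g ≫ f'') :=
        ⟨by rw [c1, Category.assoc]⟩
      let Sq : ValuativeCommSq f'' :=
        { R := A
          K := FractionRing A
          i₁ := e ≫ κι ≫ h' ≫ o
          i₂ := g ≫ f''
          commSq := hsq }
      have hsub : Subsingleton Sq.commSq.LiftStruct := IsSeparated.valuativeCriterion f'' Sq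
      let L1 : Sq.commSq.LiftStruct :=
        { l := l' ≫ o
          fac_left := by
            change Spec.map _ ≫ l' ≫ o = e ≫ κι ≫ h' ≫ o
            rw [← Category.assoc, hl'2]
            simp only [Category.assoc]
          fac_right := by
            change (l' ≫ o) ≫ f'' = g ≫ f''
            rw [Category.assoc, hof, ← Category.assoc, hl'1, hl1] }
      let L2 : Sq.commSq.LiftStruct :=
        { l := g
          fac_left := by
            change Spec.map _ ≫ g = e ≫ κι ≫ h' ≫ o
            rw [c1]
          fac_right := rfl }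
      exact congrArg (fun L : Sq.commSq.LiftStruct => L.l) (Subsingleton.elim L1 L2)
    apply hx (l'.base (IsLocalRing.closedPoint A))
    rw [← hcl, ← key]
    exact (Scheme.Hom.comp_apply l' o _).symm
  have hiso' : IsIso o := by
    apply isIso_of_isOpenImmersion_of_opensRange_eq_top
    rw [eq_top_iff]
    intro x _
    exact hsurj x
  rw [← hof]
  infer_instance

theorem isProper_of_dvr_dense {X S U : Scheme.{u}} [IsLocallyNoetherian S] (f : X ⟶ S)
    [IsSeparated f] [LocallyOfFiniteType f] [QuasiCompact f] (h : U ⟶ X)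
    [LocallyOfFiniteType h] [QuasiCompact h] (hd : DenseRange h.base)
    (H : ∀ (A : Type u) [CommRing A] [IsDomain A] [IsDiscreteValuationRing A]
      (u : Spec (CommRingCat.of (FractionRing A)) ⟶ U) (y : Spec (CommRingCat.of A) ⟶ S),
      u ≫ h ≫ f = Spec.map (CommRingCat.ofHom (algebraMap A (FractionRing A))) ≫ y →
        ∃ l : Spec (CommRingCat.of A) ⟶ X, l ≫ f = y ∧
          Spec.map (CommRingCat.ofHom (algebraMap A (FractionRing A))) ≫ l = u ≫ h) :
    IsProper f := by
  have huc : UniversallyClosed f := by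
    apply (IsZariskiLocalAtTarget.iff_of_openCover (P := @UniversallyClosed) S.affineCover).mpr
    intro i
    change UniversallyClosed (pullback.snd f (S.affineCover.f i))
    set a := S.affineCover.f i with ha
    have hWN : IsNoetherian (S.affineCover.X i) :=
      { __ := LocallyOfFiniteType.isLocallyNoetherian a }
    have hfst : IsOpenImmersion (pullback.fst f a) := inferInstance
    refine universallyClosed_of_dvr_dense (pullback.snd f a)
      (pullback.snd h (pullback.fst f a)) ?_ ?_
    · rw [DenseRange, Scheme.Pullback.range_snd]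
      exact hd.preimage (pullback.fst f a).isOpenEmbedding.isOpenMap
    · intro A _ _ _ u y hcomm
      have hc1 : pullback.fst h (pullback.fst f a) ≫ h =
          pullback.snd h (pullback.fst f a) ≫ pullback.fst f a := pullback.condition
      have hc2 : pullback.fst f a ≫ f = pullback.snd f a ≫ a := pullback.condition
      obtain ⟨l₀, hl1, hl2⟩ := H A (u ≫ pullback.fst h (pullback.fst f a)) (y ≫ a) (by
        calc (u ≫ pullback.fst h (pullback.fst f a)) ≫ h ≫ f
            = u ≫ (pullback.fst h (pullback.fst f a) ≫ h) ≫ f := by simp only [Category.assoc]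
          _ = u ≫ pullback.snd h (pullback.fst f a) ≫ (pullback.fst f a ≫ f) := by
              rw [hc1]; simp only [Category.assoc]
          _ = (u ≫ pullback.snd h (pullback.fst f a) ≫ pullback.snd f a) ≫ a := by
              rw [hc2]; simp only [Category.assoc]
          _ = Spec.map (CommRingCat.ofHom (algebraMap A (FractionRing A))) ≫ y ≫ a := by
              rw [hcomm, Category.assoc])
      refine ⟨pullback.lift l₀ y hl1, pullback.lift_snd _ _ _, ?_⟩
      apply pullback.hom_ext
      · rw [Category.assoc, pullback.lift_fst, hl2]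
        simp only [Category.assoc]
        rw [hc1]
      · rw [Category.assoc, pullback.lift_snd]
        simpa only [Category.assoc] using hcomm.symm
  exact {}

end Groth.Agent.H20.Chow
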