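import Groth.Agent.H20.Chow.Assembly

/-!
# Chow's lemma with a dense open (finitely many irreducible components)
-/

set_option autoImplicit false
universe u
open CategoryTheory CategoryTheory.Limits AlgebraicGeometry TopologicalSpace

namespace Groth.Agent.H20.Chow

theorem chow_dense {X S : Scheme.{u}} (f : X ⟶ S) [CompactSpace S]
    [QuasiSeparatedSpace S] [IsSeparated f] [LocallyOfFiniteType f] [QuasiCompact f]
    (hirr : (irreducibleComponents (X : Type u)).Finite) :
    ∃ (n : ℕ) (X' : Scheme.{u}) (π : X' ⟶ X) (j : X' ⟶ CohB1.ProjSpaceOver n S),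
      IsImmersion j ∧ j ≫ CohB1.ProjSpaceOver.toBase n S = π ≫ f ∧ IsProper π ∧ Surjective π ∧
      ∃ U : X.Opens, Dense (U : Set X) ∧ IsIso (π ∣_ U) := by
  classical
  have hXc : CompactSpace X := QuasiCompact.compactSpace_of_compactSpace f
  have hXq : QuasiSeparatedSpace X := quasiSeparatedSpace_of_quasiSeparated f
  by_cases hX : IsEmpty X
  · refine ⟨0, X, 𝟙 X, (isInitialOfIsEmpty (X := X)).to _, inferInstance,
      (isInitialOfIsEmpty (X := X)).hom_ext _ _, inferInstance, inferInstance, ⊤, ?_, inferInstance⟩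
    simp
  · rw [not_isEmpty_iff] at hX
    obtain ⟨n, η, hη, hη'⟩ := exists_generic_points X hirr
    have hV : ∀ x : X, ∃ U : X.Opens, IsAffineOpen U ∧ x ∈ U ∧ ∀ i, η i ∈ U := fun x =>
      Groth.Agent.H20.exists_affine_of_generic_points_and_point X η hη x
    choose V hVaff hxV hηV using hV
    obtain ⟨t, ht⟩ := isCompact_univ.elim_finite_subcover (fun x => (V x : Set X))
      (fun x => (V x).2) (fun x _ => Set.mem_iUnion.mpr ⟨x, hxV x⟩)
    have hcov : ∀ y : X, ∃ x ∈ t, y ∈ V x := by
      intro y
      have := ht (Set.mem_univ y)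
      simpa using this
    have htne : t.Nonempty := by
      obtain ⟨y⟩ := hX
      obtain ⟨x, hx, -⟩ := hcov y
      exact ⟨x, hx⟩
    have hd : Dense ((t.inf V : X.Opens) : Set X) := by
      apply dense_of_generic_points η hη'
      intro i
      exact Finset.inf_induction (p := fun W : X.Opens => η i ∈ W) (by trivial)
        (fun a ha b hb => ⟨ha, hb⟩) (fun x _ => hηV x i)
    exact chow_of_cover f t htne V hVaff hcov hd

end Groth.Agent.H20.Chow
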