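import Groth.Agent.H20.Chow.DenseStrong

/-!
# Chow's lemma with a dense open whose inverse image is dense, keeping reducedness
-/

set_option autoImplicit false
universe u
open CategoryTheory CategoryTheory.Limits AlgebraicGeometry TopologicalSpace

namespace Groth.Agent.H20.Chow

theorem chow_of_cover'' {X S : Scheme.{u}} (f : X ⟶ S) [IsSeparated f] [LocallyOfFiniteType f]
    [CompactSpace X] [QuasiSeparatedSpace X]
    {σ : Type u} [DecidableEq σ] (t : Finset σ) (ht : t.Nonempty) (V : σ → X.Opens)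
    (hV : ∀ x, IsAffineOpen (V x))
    (hcov : ∀ y : X, ∃ x ∈ t, y ∈ V x) (hd : Dense ((t.inf V : X.Opens) : Set X)) :
    ∃ (n : ℕ) (X' : Scheme.{u}) (π : X' ⟶ X) (j : X' ⟶ CohB1.ProjSpaceOver n S),
      IsImmersion j ∧ j ≫ CohB1.ProjSpaceOver.toBase n S = π ≫ f ∧ IsProper π ∧ Surjective π ∧
      (IsReduced X → IsReduced X') ∧
      ∃ U : X.Opens, Dense (U : Set X) ∧ IsIso (π ∣_ U) ∧
        Dense ((π ⁻¹ᵁ U : X'.Opens) : Set X') := by
  have hAff : ∀ x, IsAffine (V x : Scheme.{u}) := fun x => hV x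
  have himm : ∀ x, ∃ (N : ℕ) (i : (V x : Scheme.{u}) ⟶ CohB1.ProjSpaceOver N S), IsImmersion i ∧
      i ≫ CohB1.ProjSpaceOver.toBase N S = (V x).ι ≫ f := fun x =>
    exists_immersion_projSpaceOver ((V x).ι ≫ f)
  choose N φ hφimm hφ using himm
  obtain ⟨A⟩ := nonempty_multiProj N S t ht
  let U : X.Opens := t.inf V
  have hUle : ∀ x ∈ t, U ≤ V x := fun x hx => Finset.inf_le hx
  obtain ⟨τ, hτ, hτ'⟩ := A.lift (U : Scheme.{u}) (fun x hx => X.homOfLE (hUle x hx) ≫ φ x)
    (U.ι ≫ f) (fun x hx => by rw [Category.assoc, hφ, X.homOfLE_ι_assoc])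
  let D : Setup.{u} := { f := f, p := A.p, U := U, φ := τ, hφ := hτ }
  have : IsSeparated D.f := ‹IsSeparated f›
  have : IsProper D.p := inferInstanceAs (IsProper A.p)
  have hUc : CompactSpace (U : Scheme.{u}) :=
    isCompact_iff_compactSpace.mp (compactSpace_finset_inf t V (fun x _ => (hV x).isCompact))
  have hqs : QuasiSeparatedSpace (pullback f A.p : Scheme.{u}) :=
    quasiSeparatedSpace_of_quasiSeparated (pullback.fst f A.p)
  have : QuasiCompact D.ψ := by
    have : CompactSpace (D.U : Scheme.{u}) := hUc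
    have : QuasiSeparatedSpace (pullback D.f D.p : Scheme.{u}) := hqs
    infer_instance
  let C : t → Chart D := fun x =>
    { Ui := V x.1
      hU := hUle x.1 x.2
      Pi := CohB1.ProjSpaceOver (N x.1) S
      pi := CohB1.ProjSpaceOver.toBase (N x.1) S
      sep := by
        have := Groth.Agent.H97.ProjProper.isProper_toBase (N x.1) S
        infer_instance
      q := A.q x.1 x.2
      hq := A.hq x.1 x.2
      φi := φ x.1
      imm := hφimm x.1
      hφi := hφ x.1
      hcompat := hτ' x.1 x.2 }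
  have hcovC : ⨆ x, (C x).Ui = ⊤ := by
    rw [eq_top_iff]
    intro y _
    obtain ⟨x, hx, hy⟩ := hcov y
    exact Opens.mem_iSup.mpr ⟨⟨x, hx⟩, hy⟩
  obtain ⟨h1, h2, h3, h4, h5⟩ := D.key hd C hcovC
  refine ⟨A.M, D.X', D.π, D.h ≫ A.σ, ?_, ?_, h1, h2, ?_, U, hd, h3, ?_⟩
  · infer_instance
  · rw [Category.assoc, A.hσ]
    exact h5
  · intro hred
    have : IsReduced (D.U : Scheme.{u}) := inferInstanceAs (IsReduced (U : Scheme.{u}))
    exact IsSchemeTheoreticallyDominant.isReduced D.j
  · have hdj : DenseRange D.j.base := D.j.denseRange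
    refine hdj.mono ?_
    rintro _ ⟨y, rfl⟩
    change D.π (D.j y) ∈ U
    have : (D.j ≫ D.π) y = U.ι y := by rw [D.j_π]
    rw [Scheme.Hom.comp_apply] at this
    rw [this]
    exact y.2

theorem chow_dense'' {X S : Scheme.{u}} (f : X ⟶ S) [CompactSpace S]
    [QuasiSeparatedSpace S] [IsSeparated f] [LocallyOfFiniteType f] [QuasiCompact f]
    (hirr : (irreducibleComponents (X : Type u)).Finite) :
    ∃ (n : ℕ) (X' : Scheme.{u}) (π : X' ⟶ X) (j : X' ⟶ CohB1.ProjSpaceOver n S),
      IsImmersion j ∧ j ≫ CohB1.ProjSpaceOver.toBase n S = π ≫ f ∧ IsProper π ∧ Surjective π ∧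
      (IsReduced X → IsReduced X') ∧
      ∃ U : X.Opens, Dense (U : Set X) ∧ IsIso (π ∣_ U) ∧
        Dense ((π ⁻¹ᵁ U : X'.Opens) : Set X') := by
  classical
  have hXc : CompactSpace X := QuasiCompact.compactSpace_of_compactSpace f
  have hXq : QuasiSeparatedSpace X := quasiSeparatedSpace_of_quasiSeparated f
  by_cases hX : IsEmpty X
  · refine ⟨0, X, 𝟙 X, (isInitialOfIsEmpty (X := X)).to _, inferInstance,
      (isInitialOfIsEmpty (X := X)).hom_ext _ _, inferInstance, inferInstance, fun h => h, ⊤, ?_,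
      inferInstance, ?_⟩
    · simp
    · simp
  · rw [not_isEmpty_iff] at hX
    obtain ⟨n, η, hη, hη'⟩ := exists_generic_points X hirr
    have hV : ∀ x : X, ∃ U : X.Opens, IsAffineOpen U ∧ x ∈ U ∧ ∀ i, η i ∈ U := fun x =>
      Groth.Agent.H20.exists_affine_of_generic_points_and_point X η hη x
    choose V hVaff hxV hηV using hV
    obtain ⟨t, ht⟩ := isCompact_univ.elim_finite_subcover (fun x => (V x : Set X))
      (fun x => (V x).2) (fun x _ => Set.mem_iUnion.mpr ⟨x, hxV x⟩)
    have hcov : ∀ y : X, ∃ x ∈ t, y ∈ V x := by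
      intro y
      have := ht (Set.mem_univ y)
      simpa using this
    have htne : t.Nonempty := by
      obtain ⟨y⟩ := hX
      obtain ⟨x, hx, -⟩ := hcov y
      exact ⟨x, hx⟩
    have hd : Dense ((t.inf V : X.Opens) : Set X) := by
      apply dense_of_generic_points η hη'
      intro i
      exact Finset.inf_induction (p := fun W : X.Opens => η i ∈ W) (by trivial)
        (fun a ha b hb => ⟨ha, hb⟩) (fun x _ => hηV x i)
    exact chow_of_cover'' f t htne V hVaff hcov hd

end Groth.Agent.H20.Chow
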