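import Groth.Agent.H20.Chow.Dense
import Groth.Agent.H20.NA.SepFP
import Groth.Agent.H20.NA.Absolute
import Groth.Agent.H20.NA.FTInt
import Groth.Agent.H48.ProjSpace
import Groth.Agent.S0591
import Groth.Agent.S9190

/-!
# Chow's lemma over a quasi-compact quasi-separated base
-/

set_option autoImplicit false
universe u
open CategoryTheory CategoryTheory.Limits AlgebraicGeometry TopologicalSpace Opposite

namespace Groth.Agent.H20.Chow

/-- The conclusion of Chow's lemma. -/
def HasChow {X S : Scheme.{u}} (f : X ⟶ S) : Prop :=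
  ∃ (n : ℕ) (X' : Scheme.{u}) (π : X' ⟶ X) (j : X' ⟶ CohB1.ProjSpaceOver n S),
    IsImmersion j ∧ j ≫ CohB1.ProjSpaceOver.toBase n S = π ≫ f ∧ IsProper π ∧ Surjective π

theorem HasChow.of_immersion {X₁ X S : Scheme.{u}} (a : X₁ ⟶ X) [IsImmersion a] (f : X ⟶ S)
    (h : HasChow f) : HasChow (a ≫ f) := by
  obtain ⟨n, X', π, j, hj, hjπ, hπ, hπs⟩ := h
  refine ⟨n, pullback π a, pullback.snd π a, pullback.fst π a ≫ j, inferInstance, ?_,
    inferInstance, inferInstance⟩
  rw [Category.assoc, hjπ, pullback.condition_assoc]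

theorem HasChow.baseChange {X S T : Scheme.{u}} (f : X ⟶ S) (b : T ⟶ S) (h : HasChow f) :
    HasChow (pullback.snd f b) := by
  obtain ⟨n, X', π, j, hj, hjπ, hπ, hπs⟩ := h
  obtain ⟨j', hj', hpb⟩ := Groth.Agent.H48.isPullback_lift_projSpaceOver n (π ≫ f) b j hjπ
  have hj'imm : IsImmersion j' := MorphismProperty.of_isPullback (P := @IsImmersion) hpb.flip hj
  let πT : pullback (π ≫ f) b ⟶ pullback f b :=
    pullback.lift (pullback.fst _ _ ≫ π) (pullback.snd _ _)
      (by rw [Category.assoc, pullback.condition])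
  have hsq : IsPullback πT (pullback.fst (π ≫ f) b) (pullback.fst f b) π := by
    have h1 : IsPullback (pullback.fst (π ≫ f) b) (πT ≫ pullback.snd f b) (π ≫ f) b := by
      have : πT ≫ pullback.snd f b = pullback.snd (π ≫ f) b := pullback.lift_snd _ _ _
      rw [this]
      exact IsPullback.of_hasPullback _ _
    exact (IsPullback.of_bot h1 (pullback.lift_fst _ _ _).symm
      (IsPullback.of_hasPullback f b)).flip
  have hπT : IsProper πT := MorphismProperty.of_isPullback (P := @IsProper) hsq.flip hπ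
  have hπTs : Surjective πT := MorphismProperty.of_isPullback (P := @Surjective) hsq.flip hπs
  refine ⟨n, pullback (π ≫ f) b, πT, j', hj'imm, ?_, hπT, hπTs⟩
  rw [hj']
  exact (pullback.lift_snd _ _ _).symm

theorem HasChow.of_isPullback {X S X₁ T : Scheme.{u}} {f : X ⟶ S} {b : T ⟶ S} {f₁ : X₁ ⟶ T}
    {a : X₁ ⟶ X} (h : IsPullback a f₁ f b) (hf : HasChow f) : HasChow f₁ := by
  have h1 := HasChow.of_immersion h.isoPullback.hom _ (hf.baseChange f b)
  rwa [h.isoPullback_hom_snd] at h1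

/-- Chow's lemma for separated morphisms of finite presentation over a limit of
finite type `ℤ`-schemes. -/
theorem hasChow_of_limit {I : Type u} [Preorder I] [IsDirected I (fun a b => a ≤ b)] [Nonempty I]
    (D : Iᵒᵖ ⥤ Scheme.{u}) (c : Cone D) (hc : IsLimit c)
    (haff : ∀ (i j : Iᵒᵖ) (f : i ⟶ j), IsAffineHom (D.map f))
    (hft : ∀ i, Groth.Agent.H20.NA.IsFT (D.obj i))
    {X : Scheme.{u}} (g : X ⟶ c.pt) [IsSeparated g] [LocallyOfFinitePresentation g]
    [QuasiCompact g] : HasChow g := by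
  haveI : ∀ (i j : Iᵒᵖ) (f : i ⟶ j), IsAffineHom (D.map f) := haff
  haveI : ∀ i, CompactSpace (D.obj i) := fun i => (hft i).1
  haveI hN : ∀ i, IsNoetherian (D.obj i) := fun i => by
    haveI := (hft i).2
    exact Groth.Agent.H20.NA.isNoetherian_of_ft _
  haveI : ∀ i, QuasiSeparatedSpace (D.obj i) := fun i => inferInstance
  obtain ⟨i₀, Y₀, g₀, q, hg₀fp, hg₀qc, hg₀qs, hpb⟩ := Groth.Agent.S0591.result D c hc X g
  haveI : CompactSpace Y₀ := QuasiCompact.compactSpace_of_compactSpace g₀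
  haveI : QuasiSeparatedSpace Y₀ := quasiSeparatedSpace_of_quasiSeparated g₀
  have hY : IsPullback (c.π.app i₀) (𝟙 c.pt) (𝟙 (D.obj i₀)) (c.π.app i₀) :=
    IsPullback.id_vert _
  obtain ⟨i, φ, Xi, Yi, fi, gi, pY, pX, h1, h2, hsep⟩ :=
    Groth.Agent.S9190.result D c hc i₀ g₀ (𝟙 (D.obj i₀)) g (𝟙 c.pt) (c.π.app i₀) q hY hpb
  have hgi : IsIso gi := h1.isIso_snd_of_isIso
  have h3 : IsPullback pX (fi ≫ gi) g₀ (D.map φ) := by
    have := h2.paste_vert h1
    rwa [Category.comp_id] at this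
  have hfp : LocallyOfFinitePresentation (fi ≫ gi) :=
    MorphismProperty.of_isPullback (P := @LocallyOfFinitePresentation) h3 hg₀fp
  have hqc : QuasiCompact (fi ≫ gi) :=
    MorphismProperty.of_isPullback (P := @QuasiCompact) h3 hg₀qc
  have hsep' : IsSeparated (fi ≫ gi) := inferInstance
  have hchow : HasChow (fi ≫ gi) := by
    obtain ⟨n, X', π, j, hj, hjπ, hπ, hπs, -⟩ := chow_dense (fi ≫ gi)
      (haveI : IsNoetherian Xi :=
        { __ := LocallyOfFiniteType.isLocallyNoetherian (fi ≫ gi)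
          __ := QuasiCompact.compactSpace_of_compactSpace (fi ≫ gi) }
       finite_irreducibleComponents_of_isNoetherian)
    exact ⟨n, X', π, j, hj, hjπ, hπ, hπs⟩
  have hw : c.π.app i ≫ D.map φ = c.π.app i₀ := c.w φ
  let u : X ⟶ Xi := h3.lift q (g ≫ c.π.app i) (by rw [Category.assoc, hw, hpb.w])
  have h4 : IsPullback u g (fi ≫ gi) (c.π.app i) := by
    refine IsPullback.of_right ?_ (h3.lift_snd _ _ _) h3
    rw [h3.lift_fst, hw]
    exact hpb
  exact HasChow.of_isPullback h4 hchow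

/-- **Chow's lemma** over a quasi-compact quasi-separated base. -/
theorem chow_general {X S : Scheme.{u}} (f : X ⟶ S) [CompactSpace S] [QuasiSeparatedSpace S]
    [IsSeparated f] [LocallyOfFiniteType f] [QuasiCompact f] : HasChow f := by
  obtain ⟨X₁, g, a, hsep, hfp, hqc, hcl, hag⟩ := Groth.Agent.H20.NA.exists_separated_fp f
  rw [← hag]
  apply HasChow.of_immersion
  obtain ⟨I, _, _, _, D, c, hc, haff, hft, ⟨e⟩⟩ := Groth.Agent.H20.NA.exists_absolute S
  have h1 : HasChow (g ≫ e.inv) := hasChow_of_limit D c hc haff hft (g ≫ e.inv)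
  have h2 : IsPullback (𝟙 X₁) g (g ≫ e.inv) e.inv := IsPullback.of_horiz_isIso ⟨by simp⟩
  exact HasChow.of_isPullback h2 h1

end Groth.Agent.H20.Chow
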