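import Groth.Agent.H20.Chow.Setup

/-!
# Chow's lemma: the closure of the graph is proper, surjective and an isomorphism over `U`
-/

set_option autoImplicit false
set_option linter.unusedSectionVars false
universe u
open CategoryTheory CategoryTheory.Limits AlgebraicGeometry TopologicalSpace

namespace Groth.Agent.H20.Chow

namespace Setup

variable (D : Setup.{u}) [QuasiCompact D.ψ]

/-- `π` is surjective when `U` is dense. -/
theorem surjective_π [IsProper D.p] (hU : Dense (D.U : Set D.X)) : Surjective D.π := by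
  constructor
  have hcl : IsClosed (Set.range D.π) := D.π.isClosedMap.isClosed_range
  have hsub : (D.U : Set D.X) ⊆ Set.range D.π := by
    intro x hx
    let y : (D.U : Scheme.{u}) := ⟨x, hx⟩
    refine ⟨D.j y, ?_⟩
    have : (D.j ≫ D.π) y = x := by rw [j_π]; rfl
    exact this
  intro x
  have : x ∈ closure (D.U : Set D.X) := hU x
  exact hcl.closure_subset_iff.mpr hsub this

/-- The inclusion `U ⟶ π⁻¹(U)`. -/
noncomputable def jU : (D.U : Scheme.{u}) ⟶ ((D.π ⁻¹ᵁ D.U : D.X'.Opens) : Scheme.{u}) :=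
  IsOpenImmersion.lift (D.π ⁻¹ᵁ D.U).ι D.j (by
    rw [Scheme.Opens.range_ι]
    rintro _ ⟨x, rfl⟩
    change D.π (D.j x) ∈ D.U
    rw [← Scheme.Hom.comp_apply, j_π]
    exact x.2)

@[reassoc (attr := simp)]
lemma jU_ι : D.jU ≫ (D.π ⁻¹ᵁ D.U).ι = D.j := IsOpenImmersion.lift_fac _ _ _

lemma jU_restrict : D.jU ≫ (D.π ∣_ D.U) = 𝟙 _ := by
  rw [← cancel_mono D.U.ι, Category.assoc, morphismRestrict_ι, jU_ι_assoc, j_π, Category.id_comp]

instance : IsOpenImmersion D.jU := by
  have : IsOpenImmersion (D.jU ≫ (D.π ⁻¹ᵁ D.U).ι) := by rw [jU_ι]; infer_instance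
  exact IsOpenImmersion.of_comp D.jU (D.π ⁻¹ᵁ D.U).ι

instance : IsSchemeTheoreticallyDominant D.jU :=
  schDominant_of_comp_ι D.j _ D.jU D.jU_ι

theorem isIso_π_restrict [IsProper D.p] : IsIso (D.π ∣_ D.U) := by
  have hci : IsClosedImmersion D.jU := by
    have : IsClosedImmersion (D.jU ≫ (D.π ∣_ D.U)) := by rw [jU_restrict]; infer_instance
    exact IsClosedImmersion.of_comp D.jU (D.π ∣_ D.U)
  have hiso : IsIso D.jU := IsClosedImmersion.isIso_iff_ker_eq_bot.mpr D.jU.ker_eq_bot
  have : D.π ∣_ D.U = inv D.jU := by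
    rw [← cancel_epi D.jU, jU_restrict, IsIso.hom_inv_id]
  rw [this]
  infer_instance

end Setup

end Groth.Agent.H20.Chow
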