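import Groth.Agent.H20.Chow.ProperLimit

/-!
# The scheme-theoretic images of a closed subscheme of a limit in the stages
-/

set_option autoImplicit false
set_option linter.unusedSectionVars false
universe u
open CategoryTheory CategoryTheory.Limits AlgebraicGeometry TopologicalSpace Opposite

namespace Groth.Agent.H20.Chow

open Groth.Agent.H20.ClosedLimit Groth.Agent.H20.NA Groth.Agent.H20.IdealDirected

variable {I : Type u} [SmallCategory I] [IsCofiltered I]
  (D : I ⥤ Scheme.{u}) (c : Limits.Cone D) (hc : Limits.IsLimit c)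
  [∀ (i j : I) (f : i ⟶ j), IsAffineHom (D.map f)]
  [∀ i, CompactSpace (D.obj i)] [∀ i, QuasiSeparatedSpace (D.obj i)]

include hc in
/-- A closed immersion of finite presentation into the limit is the base change of a closed
immersion into a stage. -/
theorem exists_descend_closedImmersion {V : Scheme.{u}} (v : V ⟶ c.pt) [IsClosedImmersion v]
    [LocallyOfFinitePresentation v] :
    ∃ (i : I) (Z : Scheme.{u}) (z : Z ⟶ D.obj i) (w : V ⟶ Z), IsClosedImmersion z ∧
      IsPullback w v z (c.π.app i) := by
  obtain ⟨i₁, Y₁, h₁, q₁, hfp, hqc, hqs, hpb⟩ := Groth.Agent.S0591.result D c hc V v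
  haveI : CompactSpace Y₁ := QuasiCompact.compactSpace_of_compactSpace h₁
  haveI : QuasiSeparatedSpace Y₁ := quasiSeparatedSpace_of_quasiSeparated h₁
  have hY : IsPullback (c.π.app i₁) (𝟙 c.pt) (𝟙 (D.obj i₁)) (c.π.app i₁) := IsPullback.id_vert _
  obtain ⟨i, φ, Xi, Yi, fi, gi, pY, pX, s1, s2, hprop⟩ :=
    Groth.Agent.S9189.result D c hc i₁ h₁ (𝟙 (D.obj i₁)) v (𝟙 c.pt) (c.π.app i₁) q₁ hY hpb
  have hgi : IsIso gi := s1.isIso_snd_of_isIso
  have s3 : IsPullback pX (fi ≫ gi) h₁ (D.map φ) := by
    have := s2.paste_vert s1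
    rwa [Category.comp_id] at this
  have hw : c.π.app i ≫ D.map φ = c.π.app i₁ := c.w φ
  let u : V ⟶ Xi := s3.lift q₁ (v ≫ c.π.app i) (by rw [Category.assoc, hw, hpb.w])
  have s4 : IsPullback u v (fi ≫ gi) (c.π.app i) := by
    refine IsPullback.of_right ?_ (s3.lift_snd _ _ _) s3
    rw [s3.lift_fst, hw]
    exact hpb
  exact ⟨i, Xi, fi ≫ gi, u, inferInstance, s4⟩

variable {X : Scheme.{u}} (ι : X ⟶ c.pt)

/-- The composite `X ⟶ c.pt ⟶ D.obj i`. -/
noncomputable def proj (i : I) : X ⟶ D.obj i := ι ≫ c.π.app i

/-- The scheme-theoretic image of `X` in the stage `i`. -/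
noncomputable def imgObj (i : I) : Scheme.{u} := (proj D c ι i).image

/-- The closed immersion of the image. -/
noncomputable def imgι (i : I) : imgObj D c ι i ⟶ D.obj i := (proj D c ι i).imageι

instance (i : I) : IsClosedImmersion (imgι D c ι i) :=
  inferInstanceAs (IsClosedImmersion (proj D c ι i).imageι)

/-- The map to the image. -/
noncomputable def toImg (i : I) : X ⟶ imgObj D c ι i := (proj D c ι i).toImage

@[reassoc (attr := simp)]
lemma toImg_imgι (i : I) : toImg D c ι i ≫ imgι D c ι i = proj D c ι i :=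
  (proj D c ι i).toImage_imageι

lemma proj_map {i j : I} (a : i ⟶ j) : proj D c ι i ≫ D.map a = proj D c ι j := by
  rw [proj, Category.assoc, c.w, proj]

section

variable [IsClosedImmersion ι]

include hc in
lemma quasiCompact_proj (i : I) : QuasiCompact (proj D c ι i) := by
  haveI : ∀ {i j : I} (f : i ⟶ j), IsAffineHom (D.map f) := fun f => inferInstance
  have : IsAffineHom (c.π.app i) := isAffineHom_π_app D c hc i
  unfold proj
  infer_instance

include hc in
lemma isSchemeTheoreticallyDominant_toImg (i : I) :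
    IsSchemeTheoreticallyDominant (toImg D c ι i) := by
  have := quasiCompact_proj D c hc ι i
  exact inferInstanceAs (IsSchemeTheoreticallyDominant (proj D c ι i).toImage)

include hc in
lemma exists_imgMap {i j : I} (a : i ⟶ j) :
    ∃ m : imgObj D c ι i ⟶ imgObj D c ι j, m ≫ imgι D c ι j = imgι D c ι i ≫ D.map a := by
  have := isSchemeTheoreticallyDominant_toImg D c hc ι i
  exact exists_lift_of_schDominant (imgι D c ι i ≫ D.map a) (imgι D c ι j) (toImg D c ι i)
    (toImg D c ι j) (by rw [toImg_imgι, toImg_imgι_assoc, proj_map])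

/-- The transition maps between the images. -/
noncomputable def imgMap {i j : I} (a : i ⟶ j) : imgObj D c ι i ⟶ imgObj D c ι j :=
  (exists_imgMap D c hc ι a).choose

@[reassoc (attr := simp)]
lemma imgMap_imgι {i j : I} (a : i ⟶ j) :
    imgMap D c hc ι a ≫ imgι D c ι j = imgι D c ι i ≫ D.map a :=
  (exists_imgMap D c hc ι a).choose_spec

/-- The diagram of images. -/
noncomputable def imgDiagram : I ⥤ Scheme.{u} where
  obj i := imgObj D c ι i
  map a := imgMap D c hc ι a
  map_id i := by
    rw [← cancel_mono (imgι D c ι i), imgMap_imgι, D.map_id, Category.comp_id, Category.id_comp]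
  map_comp a b := by
    rw [← cancel_mono (imgι D c ι _), imgMap_imgι, Category.assoc, imgMap_imgι,
      imgMap_imgι_assoc, D.map_comp]

/-- The inclusion of the diagram of images. -/
noncomputable def imgDiagramι : imgDiagram D c hc ι ⟶ D where
  app i := imgι D c ι i
  naturality i j a := imgMap_imgι D c hc ι a

/-- The cone with vertex `X` over the diagram of images. -/
noncomputable def imgCone : Cone (imgDiagram D c hc ι) where
  pt := X
  π :=
    { app := fun i => toImg D c ι i
      naturality := fun i j a => by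
        change 𝟙 X ≫ toImg D c ι j = toImg D c ι i ≫ imgMap D c hc ι a
        rw [Category.id_comp, ← cancel_mono (imgι D c ι j), Category.assoc, imgMap_imgι,
          toImg_imgι, toImg_imgι_assoc, proj_map] }

lemma isAffineHom_imgMap {i j : I} (a : i ⟶ j) : IsAffineHom (imgMap D c hc ι a) := by
  have h1 : IsAffineHom (imgMap D c hc ι a ≫ imgι D c ι j) := by
    rw [imgMap_imgι]; infer_instance
  exact MorphismProperty.of_postcomp (W := @IsAffineHom) (W' := @IsSeparated)
    (imgMap D c hc ι a) (imgι D c ι j) inferInstance h1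

/-- The cone over `D` induced by a cone over the diagram of images. -/
noncomputable def imgConeToCone (s : Cone (imgDiagram D c hc ι)) : Cone D :=
  (Cone.postcompose (imgDiagramι D c hc ι)).obj s

lemma imgConeToCone_π (s : Cone (imgDiagram D c hc ι)) (i : I) :
    (imgConeToCone D c hc ι s).π.app i = s.π.app i ≫ (imgDiagramι D c hc ι).app i := rfl

include hc in
theorem ker_le_ker_of_cone (s : Cone (imgDiagram D c hc ι)) (u : s.pt ⟶ c.pt)
    (hu : ∀ i, u ≫ c.π.app i = s.π.app i ≫ (imgDiagramι D c hc ι).app i) : ι.ker ≤ u.ker := by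
  haveI : ∀ {i j : I} (f : i ⟶ j), IsAffineHom (D.map f) := fun f => inferInstance
  obtain ⟨i₀⟩ := IsCofiltered.nonempty (C := I)
  have hπaff : IsAffineHom (c.π.app i₀) := isAffineHom_π_app D c hc i₀
  have hXc : CompactSpace c.pt := QuasiCompact.compactSpace_of_compactSpace (c.π.app i₀)
  have hXq : QuasiSeparatedSpace c.pt := quasiSeparatedSpace_of_quasiSeparated (c.π.app i₀)
  apply le_of_forall_fg_le
  intro J hJ hft
  have hfp : LocallyOfFinitePresentation J.subschemeι :=
    Groth.Agent.H20.IdealFP.locallyOfFinitePresentation_subschemeι _ hft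
  obtain ⟨i, Z, z, w, hz, hsq⟩ := exists_descend_closedImmersion D c hc J.subschemeι
  let b : X ⟶ J.subscheme :=
    IsClosedImmersion.lift J.subschemeι ι (by rw [Scheme.IdealSheafData.ker_subschemeι]; exact hJ)
  have hb : b ≫ J.subschemeι = ι := IsClosedImmersion.lift_fac _ _ _
  have := isSchemeTheoreticallyDominant_toImg D c hc ι i
  obtain ⟨m, hm⟩ := exists_lift_of_schDominant (imgι D c ι i) z (toImg D c ι i) (b ≫ w)
    (by rw [Category.assoc, hsq.w, reassoc_of% hb, toImg_imgι, proj])
  let m' : (imgDiagram D c hc ι).obj i ⟶ Z := m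
  have hm' : m' ≫ z = (imgDiagramι D c hc ι).app i := hm
  let l : s.pt ⟶ J.subscheme := hsq.lift (s.π.app i ≫ m') u
    (by rw [Category.assoc, hm', ← hu i])
  have hl : l ≫ J.subschemeι = u := hsq.lift_snd _ _ _
  rw [← hl]
  have h1 := Scheme.Hom.le_ker_comp l J.subschemeι
  rwa [Scheme.IdealSheafData.ker_subschemeι] at h1

/-- The lift of a cone over the diagram of images. -/
noncomputable def imgLift (s : Cone (imgDiagram D c hc ι)) : s.pt ⟶ X :=
  IsClosedImmersion.lift ι (hc.lift (imgConeToCone D c hc ι s))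
    (ker_le_ker_of_cone D c hc ι s _ (fun i => hc.fac (imgConeToCone D c hc ι s) i))

lemma imgLift_ι (s : Cone (imgDiagram D c hc ι)) :
    imgLift D c hc ι s ≫ ι = hc.lift (imgConeToCone D c hc ι s) :=
  IsClosedImmersion.lift_fac _ _ _

set_option backward.isDefEq.respectTransparency false in
/-- `X` is the limit of its scheme-theoretic images in the stages. -/
noncomputable def isLimitImgCone : IsLimit (imgCone D c hc ι) where
  lift s := imgLift D c hc ι s
  fac s i := by
    have h1 : (imgCone D c hc ι).π.app i ≫ (imgDiagramι D c hc ι).app i = ι ≫ c.π.app i :=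
      toImg_imgι D c ι i
    have hmono : Mono ((imgDiagramι D c hc ι).app i) :=
      inferInstanceAs (Mono (imgι D c ι i))
    rw [← cancel_mono ((imgDiagramι D c hc ι).app i), Category.assoc, h1,
      ← Category.assoc, imgLift_ι]
    exact hc.fac (imgConeToCone D c hc ι s) i
  uniq s m hm := by
    rw [← cancel_mono ι, imgLift_ι]
    apply hc.hom_ext
    intro i
    have h1 : (imgCone D c hc ι).π.app i ≫ (imgDiagramι D c hc ι).app i = ι ≫ c.π.app i :=
      toImg_imgι D c ι i
    rw [hc.fac, Category.assoc, ← h1, ← Category.assoc, hm i]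
    rfl

end

end Groth.Agent.H20.Chow
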