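import Groth.Agent.H20.Chow.ChartC

/-!
# Chow's lemma: the key statement
-/

set_option autoImplicit false
set_option linter.unusedSectionVars false
universe u
open CategoryTheory CategoryTheory.Limits AlgebraicGeometry TopologicalSpace

namespace Groth.Agent.H20.Chow

namespace Setup

variable (D : Setup.{u}) [QuasiCompact D.ψ] [IsSeparated D.f]

theorem isImmersion_h {ι : Type*} (C : ι → Chart D) (hcov : ⨆ i, (C i).Ui = ⊤) :
    IsImmersion D.h := by
  have hRR : MorphismProperty.RespectsRight (@IsImmersion) (@IsOpenImmersion) :=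
    ⟨fun i hi f hf => by
      have : IsOpenImmersion i := hi
      have : IsImmersion f := hf
      infer_instance⟩
  apply IsZariskiLocalAtTarget.of_range_subset_iSup (P := @IsImmersion) (fun i => (C i).V)
  · rintro _ ⟨x, rfl⟩
    have hx : D.π x ∈ ⨆ i, (C i).Ui := by rw [hcov]; trivial
    obtain ⟨i, hi⟩ := Opens.mem_iSup.mp hx
    exact Opens.mem_iSup.mpr ⟨i, (C i).Xi_le_Y hi⟩
  · intro i
    exact inferInstanceAs (IsImmersion (C i).hY)

/-- The key statement of Chow's lemma. -/
theorem key [IsProper D.p] (hU : Dense (D.U : Set D.X)) {ι : Type*} (C : ι → Chart D)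
    (hcov : ⨆ i, (C i).Ui = ⊤) :
    IsProper D.π ∧ Surjective D.π ∧ IsIso (D.π ∣_ D.U) ∧ IsImmersion D.h ∧
      D.h ≫ D.p = D.π ≫ D.f :=
  ⟨inferInstance, D.surjective_π hU, D.isIso_π_restrict, D.isImmersion_h C hcov, D.h_p⟩

end Setup

end Groth.Agent.H20.Chow
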