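import Groth.Agent.H20.Chow.General

/-!
# Chow's lemma over a quasi-compact quasi-separated base, with an isomorphism over a nonempty open (helper20)
-/

set_option autoImplicit false
universe u
open CategoryTheory CategoryTheory.Limits AlgebraicGeometry TopologicalSpace Opposite

namespace Groth.Agent.H20.Chow

/-- base change of a morphism that is an isomorphism over an open -/
theorem isIso_morphismRestrict_of_isPullback {X'' X' X₂ X : Scheme.{u}} {p' : X'' ⟶ X'}
    {π' : X'' ⟶ X₂} {π : X' ⟶ X} {p : X₂ ⟶ X} (sq : IsPullback p' π' π p) (U : X.Opens)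
    [IsIso (π ∣_ U)] : IsIso (π' ∣_ (p ⁻¹ᵁ U)) := by
  have sqA := (isPullback_morphismRestrict π' (p ⁻¹ᵁ U)).flip
  have sqB := (isPullback_morphismRestrict π U).flip
  have h1 := sqA.paste_horiz sq
  have h2 : (p ⁻¹ᵁ U).ι ≫ p = (p ∣_ U) ≫ U.ι := (morphismRestrict_ι p U).symm
  rw [h2] at h1
  let k : (π' ⁻¹ᵁ (p ⁻¹ᵁ U) : Scheme.{u}) ⟶ (π ⁻¹ᵁ U : Scheme.{u}) :=
    sqB.lift ((π' ⁻¹ᵁ (p ⁻¹ᵁ U)).ι ≫ p') ((π' ∣_ (p ⁻¹ᵁ U)) ≫ (p ∣_ U)) (by
      rw [h1.w, Category.assoc])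
  have hk1 : k ≫ (π ⁻¹ᵁ U).ι = (π' ⁻¹ᵁ (p ⁻¹ᵁ U)).ι ≫ p' := sqB.lift_fst _ _ _
  have hk2 : k ≫ (π ∣_ U) = (π' ∣_ (p ⁻¹ᵁ U)) ≫ (p ∣_ U) := sqB.lift_snd _ _ _
  rw [← hk1] at h1
  exact (IsPullback.of_right h1 hk2 sqB).isIso_snd_of_isIso

/-- The conclusion of Chow's lemma, with `π` an isomorphism over a given open. -/
def HasChowOn {X S : Scheme.{u}} (f : X ⟶ S) (U : X.Opens) : Prop :=
  ∃ (n : ℕ) (X' : Scheme.{u}) (π : X' ⟶ X) (j : X' ⟶ CohB1.ProjSpaceOver n S),
    IsImmersion j ∧ j ≫ CohB1.ProjSpaceOver.toBase n S = π ≫ f ∧ IsProper π ∧ IsIso (π ∣_ U)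

theorem HasChowOn.of_immersion {X₁ X S : Scheme.{u}} (a : X₁ ⟶ X) [IsImmersion a] (f : X ⟶ S)
    {U : X.Opens} (h : HasChowOn f U) : HasChowOn (a ≫ f) (a ⁻¹ᵁ U) := by
  obtain ⟨n, X', π, j, hj, hjπ, hπ, hiso⟩ := h
  refine ⟨n, pullback π a, pullback.snd π a, pullback.fst π a ≫ j, inferInstance, ?_,
    inferInstance, ?_⟩
  · rw [Category.assoc, hjπ, pullback.condition_assoc]
  · exact isIso_morphismRestrict_of_isPullback (IsPullback.of_hasPullback π a) U

theorem HasChowOn.baseChange {X S T : Scheme.{u}} (f : X ⟶ S) (b : T ⟶ S) {U : X.Opens}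
    (h : HasChowOn f U) : HasChowOn (pullback.snd f b) (pullback.fst f b ⁻¹ᵁ U) := by
  obtain ⟨n, X', π, j, hj, hjπ, hπ, hiso⟩ := h
  obtain ⟨j', hj', hpb⟩ := Groth.Agent.H48.isPullback_lift_projSpaceOver n (π ≫ f) b j hjπ
  have hj'imm : IsImmersion j' := MorphismProperty.of_isPullback (P := @IsImmersion) hpb.flip hj
  let πT : pullback (π ≫ f) b ⟶ pullback f b :=
    pullback.lift (pullback.fst _ _ ≫ π) (pullback.snd _ _)
      (by rw [Category.assoc, pullback.condition])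
  have hsq : IsPullback πT (pullback.fst (π ≫ f) b) (pullback.fst f b) π := by
    have h1 : IsPullback (pullback.fst (π ≫ f) b) (πT ≫ pullback.snd f b) (π ≫ f) b := by
      have : πT ≫ pullback.snd f b = pullback.snd (π ≫ f) b := pullback.lift_snd _ _ _
      rw [this]
      exact IsPullback.of_hasPullback _ _
    exact (IsPullback.of_bot h1 (pullback.lift_fst _ _ _).symm
      (IsPullback.of_hasPullback f b)).flip
  have hπT : IsProper πT := MorphismProperty.of_isPullback (P := @IsProper) hsq.flip hπ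
  refine ⟨n, pullback (π ≫ f) b, πT, j', hj'imm, ?_, hπT, ?_⟩
  · rw [hj']
    exact (pullback.lift_snd _ _ _).symm
  · exact isIso_morphismRestrict_of_isPullback hsq.flip U

/-- descent of a separated finitely presented morphism to a Noetherian stage -/
theorem exists_noetherian_descent {I : Type u} [Preorder I] [IsDirected I (fun a b => a ≤ b)]
    [Nonempty I] (D : Iᵒᵖ ⥤ Scheme.{u}) (c : Cone D) (hc : IsLimit c)
    (haff : ∀ (i j : Iᵒᵖ) (f : i ⟶ j), IsAffineHom (D.map f))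
    (hft : ∀ i, Groth.Agent.H20.NA.IsFT (D.obj i))
    {X : Scheme.{u}} (g : X ⟶ c.pt) [IsSeparated g] [LocallyOfFinitePresentation g]
    [QuasiCompact g] :
    ∃ (i : Iᵒᵖ) (Xi : Scheme.{u}) (gi : Xi ⟶ D.obj i) (u : X ⟶ Xi), IsNoetherian (D.obj i) ∧
      IsSeparated gi ∧ LocallyOfFinitePresentation gi ∧ QuasiCompact gi ∧
      IsPullback u g gi (c.π.app i) := by
  haveI : ∀ (i j : Iᵒᵖ) (f : i ⟶ j), IsAffineHom (D.map f) := haff
  haveI : ∀ i, CompactSpace (D.obj i) := fun i => (hft i).1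
  haveI hN : ∀ i, IsNoetherian (D.obj i) := fun i => by
    haveI := (hft i).2
    exact Groth.Agent.H20.NA.isNoetherian_of_ft _
  haveI : ∀ i, QuasiSeparatedSpace (D.obj i) := fun i => inferInstance
  obtain ⟨i₀, Y₀, g₀, q, hg₀fp, hg₀qc, hg₀qs, hpb⟩ := Groth.Agent.S0591.result D c hc X g
  haveI : CompactSpace Y₀ := QuasiCompact.compactSpace_of_compactSpace g₀
  haveI : QuasiSeparatedSpace Y₀ := quasiSeparatedSpace_of_quasiSeparated g₀
  have hY : IsPullback (c.π.app i₀) (𝟙 c.pt) (𝟙 (D.obj i₀)) (c.π.app i₀) :=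
    IsPullback.id_vert _
  obtain ⟨i, φ, Xi, Yi, fi, gi, pY, pX, h1, h2, hsep⟩ :=
    Groth.Agent.S9190.result D c hc i₀ g₀ (𝟙 (D.obj i₀)) g (𝟙 c.pt) (c.π.app i₀) q hY hpb
  have hgi : IsIso gi := h1.isIso_snd_of_isIso
  have h3 : IsPullback pX (fi ≫ gi) g₀ (D.map φ) := by
    have := h2.paste_vert h1
    rwa [Category.comp_id] at this
  have hfp : LocallyOfFinitePresentation (fi ≫ gi) :=
    MorphismProperty.of_isPullback (P := @LocallyOfFinitePresentation) h3 hg₀fp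
  have hqc : QuasiCompact (fi ≫ gi) :=
    MorphismProperty.of_isPullback (P := @QuasiCompact) h3 hg₀qc
  have hsep' : IsSeparated (fi ≫ gi) := inferInstance
  have hw : c.π.app i ≫ D.map φ = c.π.app i₀ := c.w φ
  let u : X ⟶ Xi := h3.lift q (g ≫ c.π.app i) (by rw [Category.assoc, hw, hpb.w])
  have h4 : IsPullback u g (fi ≫ gi) (c.π.app i) := by
    refine IsPullback.of_right ?_ (h3.lift_snd _ _ _) h3
    rw [h3.lift_fst, hw]
    exact hpb
  exact ⟨i, Xi, fi ≫ gi, u, hN i, hsep', hfp, hqc, h4⟩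

/-- **Chow's lemma** over a quasi-compact quasi-separated base, with `π` an isomorphism over a
nonempty open (no finiteness assumption on the irreducible components). -/
theorem chow_nonempty {X S : Scheme.{u}} (f : X ⟶ S) [CompactSpace S] [QuasiSeparatedSpace S]
    [IsSeparated f] [LocallyOfFiniteType f] [QuasiCompact f] [Nonempty X] :
    ∃ U : X.Opens, (U : Set X).Nonempty ∧ HasChowOn f U := by
  obtain ⟨X₁, g, a, hsep, hfp, hqc, hcl, hag⟩ := Groth.Agent.H20.NA.exists_separated_fp f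
  obtain ⟨I, _, _, _, D, c, hc, haff, hft, ⟨e⟩⟩ := Groth.Agent.H20.NA.exists_absolute S
  obtain ⟨i, X₀, g₀, u, hN, hsep₀, hfp₀, hqc₀, h4⟩ :=
    exists_noetherian_descent D c hc haff hft (g ≫ e.inv)
  let b : S ⟶ D.obj i := e.inv ≫ c.π.app i
  have h4' : IsPullback u g g₀ b := by
    have hiso : IsPullback (𝟙 X₁) g (g ≫ e.inv) e.inv := IsPullback.of_horiz_isIso ⟨by simp⟩
    have := hiso.paste_horiz h4
    rwa [Category.id_comp] at this
  haveI : CompactSpace X := QuasiCompact.compactSpace_of_compactSpace f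
  haveI : IsNoetherian X₀ :=
    { __ := LocallyOfFiniteType.isLocallyNoetherian g₀
      __ := QuasiCompact.compactSpace_of_compactSpace g₀ }
  let q : X ⟶ X₀ := a ≫ u
  haveI : QuasiCompact q := inferInstance
  -- the scheme-theoretic image of `X` in `X₀`
  let q' : X ⟶ q.image := q.toImage
  have hq' : q' ≫ q.imageι = q := q.toImage_imageι
  haveI : IsNoetherian q.image :=
    { __ := LocallyOfFiniteType.isLocallyNoetherian (q.imageι ≫ g₀)
      __ := QuasiCompact.compactSpace_of_compactSpace (q.imageι ≫ g₀) }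
  obtain ⟨n, T', π₀, j₀, hj₀, hjπ₀, hπ₀, hπs₀, U₀, hU₀d, hU₀iso⟩ :=
    chow_dense (q.imageι ≫ g₀) finite_irreducibleComponents_of_isNoetherian
  have hchow : HasChowOn (q.imageι ≫ g₀) U₀ := ⟨n, T', π₀, j₀, hj₀, hjπ₀, hπ₀, hU₀iso⟩
  have hchow2 := hchow.baseChange (q.imageι ≫ g₀) b
  -- the closed immersion of `X` into the base change of the image
  have hcomm : q' ≫ q.imageι ≫ g₀ = f ≫ b := by
    rw [reassoc_of% hq', ← hag, Category.assoc, Category.assoc, h4'.w]
  let c' : X ⟶ pullback (q.imageι ≫ g₀) b := pullback.lift q' f hcomm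
  have hc'1 : c' ≫ pullback.fst _ _ = q' := pullback.lift_fst _ _ _
  have hc'2 : c' ≫ pullback.snd _ _ = f := pullback.lift_snd _ _ _
  let m : pullback (q.imageι ≫ g₀) b ⟶ pullback g₀ b :=
    pullback.map (q.imageι ≫ g₀) b g₀ b q.imageι (𝟙 S) (𝟙 _) (by simp) (by simp)
  have hm : c' ≫ m = a ≫ h4'.isoPullback.hom := by
    apply pullback.hom_ext
    · rw [Category.assoc, pullback.lift_fst, reassoc_of% hc'1, hq', Category.assoc,
        h4'.isoPullback_hom_fst]
    · rw [Category.assoc, pullback.lift_snd, Category.comp_id, hc'2, Category.assoc,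
        h4'.isoPullback_hom_snd, hag]
  haveI : IsImmersion (c' ≫ m) := by
    rw [hm]
    infer_instance
  haveI hc'imm : IsImmersion c' := IsImmersion.of_comp c' m
  have hchow3 := hchow2.of_immersion c' (pullback.snd (q.imageι ≫ g₀) b)
  rw [hc'2] at hchow3
  refine ⟨_, ?_, hchow3⟩
  -- nonemptiness
  rw [← Scheme.Hom.comp_preimage, hc'1]
  haveI : Nonempty q.image := ⟨q' (Classical.arbitrary X)⟩
  obtain ⟨t, ht⟩ := hU₀d.nonempty
  obtain ⟨x, hx⟩ := (q'.denseRange).exists_mem_open U₀.2 ⟨t, ht⟩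
  exact ⟨x, hx⟩

end Groth.Agent.H20.Chow
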