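import Groth.Agent.H20.Chow.ImageLimit

/-!
# A proper morphism over a qcqs base is a limit of proper morphisms over finite type `ℤ`-schemes
-/

set_option autoImplicit false
set_option linter.unusedSectionVars false
universe u
open CategoryTheory CategoryTheory.Limits AlgebraicGeometry TopologicalSpace Opposite

namespace Groth.Agent.H20.Chow

open Groth.Agent.H20.NA

set_option backward.isDefEq.respectTransparency false in
theorem exists_proper_approx {X S : Scheme.{u}} (f : X ⟶ S) [IsProper f] [CompactSpace S]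
    [QuasiSeparatedSpace S] :
    ∃ (I : Type u) (_ : SmallCategory I) (_ : IsCofiltered I) (DX DS : I ⥤ Scheme.{u})
      (φ : DX ⟶ DS) (cX : Limits.Cone DX) (cS : Limits.Cone DS) (_ : Limits.IsLimit cX)
      (_ : Limits.IsLimit cS) (eX : cX.pt ≅ X) (eS : cS.pt ≅ S),
      (∀ (i j : I) (a : i ⟶ j), IsAffineHom (DX.map a) ∧ IsAffineHom (DS.map a)) ∧
      (∀ i, IsProper (φ.app i) ∧ CompactSpace (DS.obj i) ∧
        LocallyOfFiniteType (Limits.IsTerminal.from specULiftZIsTerminal (DS.obj i))) ∧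
      (∀ i, cX.π.app i ≫ φ.app i = eX.hom ≫ f ≫ eS.inv ≫ cS.π.app i) := by
  obtain ⟨K, _, _, _, D, c, hc, haff, hft, ⟨e⟩⟩ := exists_absolute S
  haveI : ∀ (i j : Kᵒᵖ) (f : i ⟶ j), IsAffineHom (D.map f) := haff
  haveI haff' : ∀ {i j : Kᵒᵖ} (f : i ⟶ j), IsAffineHom (D.map f) := fun f => haff _ _ f
  haveI : ∀ i, CompactSpace (D.obj i) := fun i => (hft i).1
  haveI hN : ∀ i, IsNoetherian (D.obj i) := fun i => by
    haveI := (hft i).2
    exact isNoetherian_of_ft _
  haveI : ∀ i, QuasiSeparatedSpace (D.obj i) := fun i => inferInstance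
  have hcc : CompactSpace c.pt := QuasiCompact.compactSpace_of_compactSpace e.hom
  have hcq : QuasiSeparatedSpace c.pt := quasiSeparatedSpace_of_quasiSeparated e.hom
  obtain ⟨X', h', k, hh', hfp, hk, hkh⟩ := exists_proper_fp (f ≫ e.inv)
  obtain ⟨j₀, Y₀, h₀, q, hh₀, hsq⟩ := exists_descend_proper D c hc h'
  let D' := Groth.Agent.H24.pullbackDiagram D j₀ h₀
  let c' := Groth.Agent.H24.pullbackCone D c j₀ h₀
  have hc' : IsLimit c' := Groth.Agent.H24.isLimitPullbackCone D c j₀ h₀ hc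
  haveI hD'aff : ∀ (φ ψ : Over j₀) (f : φ ⟶ ψ), IsAffineHom (D'.map f) := fun φ ψ f =>
    MorphismProperty.of_isPullback (P := @IsAffineHom)
      (Groth.Agent.H24.isPullback_pullbackDiagram_map D j₀ h₀ f).flip inferInstance
  let p : ∀ ψ : Over j₀, D'.obj ψ ⟶ D.obj ψ.left := fun ψ => pullback.fst (D.map ψ.hom) h₀
  have hp : ∀ ψ : Over j₀, IsProper (p ψ) := fun ψ =>
    MorphismProperty.of_isPullback (P := @IsProper)
      (IsPullback.of_hasPullback (D.map ψ.hom) h₀).flip hh₀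
  haveI : ∀ ψ, CompactSpace (D'.obj ψ) := fun ψ => by
    have := hp ψ
    exact QuasiCompact.compactSpace_of_compactSpace (p ψ)
  haveI : ∀ ψ, QuasiSeparatedSpace (D'.obj ψ) := fun ψ => by
    have := hp ψ
    exact quasiSeparatedSpace_of_quasiSeparated (p ψ)
  let e' : X' ≅ pullback (c.π.app j₀) h₀ := hsq.flip.isoPullback
  have he1 : e'.hom ≫ pullback.fst (c.π.app j₀) h₀ = h' := hsq.flip.isoPullback_hom_fst
  let ι : X ⟶ c'.pt := k ≫ e'.hom
  haveI : IsClosedImmersion ι := by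
    change IsClosedImmersion (k ≫ e'.hom)
    infer_instance
  refine ⟨Over j₀, inferInstance, inferInstance, imgDiagram D' c' hc' ι, Over.forget j₀ ⋙ D,
    imgDiagramι D' c' hc' ι ≫ Groth.Agent.H24.pullbackDiagramι D j₀ h₀,
    imgCone D' c' hc' ι, c.whisker (Over.forget j₀), isLimitImgCone D' c' hc' ι,
    (Functor.Initial.isLimitWhiskerEquiv (Over.forget j₀) c).symm hc, Iso.refl X, e, ?_, ?_, ?_⟩
  · intro i j a
    exact ⟨isAffineHom_imgMap D' c' hc' ι a, haff _ _ a.left⟩
  · intro i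
    refine ⟨?_, (hft i.left).1, (hft i.left).2⟩
    change IsProper (imgι D' c' ι i ≫ p i)
    have := hp i
    infer_instance
  · intro i
    change toImg D' c' ι i ≫ imgι D' c' ι i ≫ p i = 𝟙 X ≫ f ≫ e.inv ≫ c.π.app i.left
    have e1 : c'.π.app i ≫ p i = pullback.fst (c.π.app j₀) h₀ ≫ c.π.app i.left :=
      Groth.Agent.H24.pullbackCone_π_fst D c j₀ h₀ i
    rw [toImg_imgι_assoc, proj, Category.id_comp]
    calc (ι ≫ c'.π.app i) ≫ p i = k ≫ e'.hom ≫ (c'.π.app i ≫ p i) := by
          simp only [ι, Category.assoc]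
      _ = k ≫ (e'.hom ≫ pullback.fst (c.π.app j₀) h₀) ≫ c.π.app i.left := by
          rw [e1]; simp only [Category.assoc]
      _ = f ≫ e.inv ≫ c.π.app i.left := by
          rw [he1, ← Category.assoc, hkh, Category.assoc]

end Groth.Agent.H20.Chow
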