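import Groth.Agent.H20.Chow.General
import Groth.Agent.S9189
import Groth.Agent.S9190

/-!
# Properness descends to a stage of a cofiltered limit (Stacks 081F)
-/

set_option autoImplicit false
set_option linter.unusedSectionVars false
universe u
open CategoryTheory CategoryTheory.Limits AlgebraicGeometry TopologicalSpace Opposite

namespace Groth.Agent.H20.Chow

section bc

variable {S S' : Scheme.{u}} (a : S' ⟶ S) {W W' W'' : Scheme.{u}} (w : W ⟶ S) (w' : W' ⟶ S)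
  (w'' : W'' ⟶ S) (u : W ⟶ W') (h : u ≫ w' = w) (u' : W' ⟶ W'') (h' : u' ≫ w'' = w')

/-- Base change of a morphism over `S` along `a : S' ⟶ S`. -/
noncomputable def bc : pullback w a ⟶ pullback w' a :=
  pullback.lift (pullback.fst w a ≫ u) (pullback.snd w a)
    (by rw [Category.assoc, h, pullback.condition])

@[reassoc (attr := simp)]
lemma bc_fst : bc a w w' u h ≫ pullback.fst w' a = pullback.fst w a ≫ u :=
  pullback.lift_fst _ _ _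

@[reassoc (attr := simp)]
lemma bc_snd : bc a w w' u h ≫ pullback.snd w' a = pullback.snd w a :=
  pullback.lift_snd _ _ _

lemma isPullback_bc : IsPullback (pullback.fst w a) (bc a w w' u h) u (pullback.fst w' a) := by
  refine IsPullback.of_bot ?_ (bc_fst a w w' u h).symm (IsPullback.of_hasPullback w' a)
  rw [bc_snd, h]
  exact IsPullback.of_hasPullback w a

lemma bc_comp : bc a w w' u h ≫ bc a w' w'' u' h' =
    bc a w w'' (u ≫ u') (by rw [Category.assoc, h', h]) := by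
  apply pullback.hom_ext
  · simp
  · simp

lemma prop_bc (P : MorphismProperty Scheme.{u}) [P.IsStableUnderBaseChange] (hu : P u) :
    P (bc a w w' u h) :=
  P.of_isPullback (isPullback_bc a w w' u h) hu

lemma prop_bc_of_squares (P : MorphismProperty Scheme.{u}) [P.IsStableUnderBaseChange]
    {X Y : Scheme.{u}} (f : X ⟶ Y) (g : Y ⟶ S') (qY : Y ⟶ W') (qX : X ⟶ W)
    (hY : IsPullback qY g w' a) (hX : IsPullback qX f u qY) (hf : P f) :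
    P (bc a w w' u h) := by
  let k : pullback w' a ⟶ Y := hY.lift (pullback.fst w' a) (pullback.snd w' a) pullback.condition
  have hk : k ≫ qY = pullback.fst w' a := hY.lift_fst _ _ _
  let kX : pullback w a ⟶ X := hX.lift (pullback.fst w a) (bc a w w' u h ≫ k)
    (by rw [Category.assoc, hk, bc_fst])
  have hkX : kX ≫ qX = pullback.fst w a := hX.lift_fst _ _ _
  have hsq : IsPullback kX (bc a w w' u h) f k := by
    refine IsPullback.of_right ?_ (hX.lift_snd _ _ _) hX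
    rw [hkX, hk]
    exact isPullback_bc a w w' u h
  exact P.of_isPullback hsq hf

end bc

variable {I : Type u} [SmallCategory I] [IsCofiltered I]
  (D : I ⥤ Scheme.{u}) (c : Limits.Cone D) (hc : Limits.IsLimit c)
  [∀ (i j : I) (f : i ⟶ j), IsAffineHom (D.map f)]

include hc in
theorem exists_isProper_bc_of_separated (i₀ : I) [CompactSpace (D.obj i₀)]
    [QuasiSeparatedSpace (D.obj i₀)] {X₀ Y₀ : Scheme.{u}} (f₀ : X₀ ⟶ Y₀) (g₀ : Y₀ ⟶ D.obj i₀)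
    [CompactSpace X₀] [QuasiSeparatedSpace X₀] [CompactSpace Y₀] [QuasiSeparatedSpace Y₀]
    [LocallyOfFiniteType f₀] [IsSeparated f₀]
    (hprop : IsProper (bc (c.π.app i₀) (f₀ ≫ g₀) g₀ f₀ rfl)) :
    ∃ (i : I) (φ : i ⟶ i₀), IsProper (bc (D.map φ) (f₀ ≫ g₀) g₀ f₀ rfl) := by
  have hqc : QuasiCompact f₀ := inferInstance
  obtain ⟨n, X', π, j, hj, hjπ, hπ, hπs⟩ := chow_general f₀
  have ht₀ := Groth.Agent.H97.ProjProper.isProper_toBase n Y₀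
  set t₀ := CohB1.ProjSpaceOver.toBase n Y₀ with ht₀def
  have hTc : CompactSpace (CohB1.ProjSpaceOver n Y₀) :=
    QuasiCompact.compactSpace_of_compactSpace t₀
  have hTq : QuasiSeparatedSpace (CohB1.ProjSpaceOver n Y₀) :=
    quasiSeparatedSpace_of_quasiSeparated t₀
  have hX'c : CompactSpace X' := QuasiCompact.compactSpace_of_compactSpace π
  have hX'q : QuasiSeparatedSpace X' := quasiSeparatedSpace_of_quasiSeparated π
  have hjx : j ≫ t₀ ≫ g₀ = π ≫ f₀ ≫ g₀ := by rw [← Category.assoc, hjπ, Category.assoc]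
  -- the limit stage
  set a := c.π.app i₀ with ha
  have comm : bc a (π ≫ f₀ ≫ g₀) (f₀ ≫ g₀) π rfl ≫ bc a (f₀ ≫ g₀) g₀ f₀ rfl =
      bc a (π ≫ f₀ ≫ g₀) (t₀ ≫ g₀) j hjx ≫ bc a (t₀ ≫ g₀) g₀ t₀ rfl := by
    rw [bc_comp, bc_comp]
    congr 1
    exact hjπ.symm
  have hBπ : IsProper (bc a (π ≫ f₀ ≫ g₀) (f₀ ≫ g₀) π rfl) := prop_bc a _ _ _ _ @IsProper hπ
  have hBt : IsProper (bc a (t₀ ≫ g₀) g₀ t₀ rfl) := prop_bc a _ _ _ _ @IsProper ht₀
  have hBjimm : IsImmersion (bc a (π ≫ f₀ ≫ g₀) (t₀ ≫ g₀) j hjx) :=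
    prop_bc a _ _ _ _ @IsImmersion hj
  have hBjt : IsProper (bc a (π ≫ f₀ ≫ g₀) (t₀ ≫ g₀) j hjx ≫ bc a (t₀ ≫ g₀) g₀ t₀ rfl) := by
    rw [← comm]; infer_instance
  have hBj : IsProper (bc a (π ≫ f₀ ≫ g₀) (t₀ ≫ g₀) j hjx) :=
    IsProper.of_comp _ (bc a (t₀ ≫ g₀) g₀ t₀ rfl)
  have hBjcl : IsClosedImmersion (bc a (π ≫ f₀ ≫ g₀) (t₀ ≫ g₀) j hjx) :=
    IsClosedImmersion.of_isPreimmersion _
      (bc a (π ≫ f₀ ≫ g₀) (t₀ ≫ g₀) j hjx).isClosedMap.isClosed_range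
  obtain ⟨i, φ, Xi, Yi, fi, gi, pY, pX, h1, h2, hfi⟩ :=
    Groth.Agent.S9189.result D c hc i₀ j (t₀ ≫ g₀)
      (bc a (π ≫ f₀ ≫ g₀) (t₀ ≫ g₀) j hjx) (pullback.snd (t₀ ≫ g₀) a)
      (pullback.fst (t₀ ≫ g₀) a) (pullback.fst (π ≫ f₀ ≫ g₀) a)
      (IsPullback.of_hasPullback (t₀ ≫ g₀) a) (isPullback_bc a _ _ j hjx)
  refine ⟨i, φ, ?_⟩
  set b := D.map φ with hb
  have hBj' : IsClosedImmersion (bc b (π ≫ f₀ ≫ g₀) (t₀ ≫ g₀) j hjx) :=
    prop_bc_of_squares b _ _ j hjx @IsClosedImmersion fi gi pY pX h1 h2 hfi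
  have comm' : bc b (π ≫ f₀ ≫ g₀) (f₀ ≫ g₀) π rfl ≫ bc b (f₀ ≫ g₀) g₀ f₀ rfl =
      bc b (π ≫ f₀ ≫ g₀) (t₀ ≫ g₀) j hjx ≫ bc b (t₀ ≫ g₀) g₀ t₀ rfl := by
    rw [bc_comp, bc_comp]
    congr 1
    exact hjπ.symm
  have hBπ' : Surjective (bc b (π ≫ f₀ ≫ g₀) (f₀ ≫ g₀) π rfl) :=
    prop_bc b _ _ _ _ @Surjective hπs
  have hBt' : IsProper (bc b (t₀ ≫ g₀) g₀ t₀ rfl) := prop_bc b _ _ _ _ @IsProper ht₀
  have hcomp : UniversallyClosed
      (bc b (π ≫ f₀ ≫ g₀) (f₀ ≫ g₀) π rfl ≫ bc b (f₀ ≫ g₀) g₀ f₀ rfl) := by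
    rw [comm']; infer_instance
  have huc : UniversallyClosed (bc b (f₀ ≫ g₀) g₀ f₀ rfl) :=
    UniversallyClosed.of_comp_surjective (bc b (π ≫ f₀ ≫ g₀) (f₀ ≫ g₀) π rfl) _
  have hsep : IsSeparated (bc b (f₀ ≫ g₀) g₀ f₀ rfl) :=
    prop_bc b _ _ _ _ @IsSeparated inferInstance
  have hlft : LocallyOfFiniteType (bc b (f₀ ≫ g₀) g₀ f₀ rfl) :=
    prop_bc b _ _ _ _ @LocallyOfFiniteType inferInstance
  exact {}

include hc in
theorem exists_isProper_stage (i₀ : I) [CompactSpace (D.obj i₀)]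
    [QuasiSeparatedSpace (D.obj i₀)] {X₀ Y₀ : Scheme.{u}} (f₀ : X₀ ⟶ Y₀) (g₀ : Y₀ ⟶ D.obj i₀)
    [CompactSpace X₀] [QuasiSeparatedSpace X₀] [CompactSpace Y₀] [QuasiSeparatedSpace Y₀]
    {X Y : Scheme.{u}} (f : X ⟶ Y) (g : Y ⟶ c.pt) (qY : Y ⟶ Y₀) (qX : X ⟶ X₀)
    (hY : IsPullback qY g g₀ (c.π.app i₀)) (hX : IsPullback qX f f₀ qY)
    [LocallyOfFiniteType f₀] [IsProper f] :
    ∃ (i : I) (φ : i ⟶ i₀) (Xi Yi : Scheme.{u}) (fi : Xi ⟶ Yi) (gi : Yi ⟶ D.obj i)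
      (pY : Yi ⟶ Y₀) (pX : Xi ⟶ X₀), IsPullback pY gi g₀ (D.map φ) ∧ IsPullback pX fi f₀ pY ∧
      IsProper fi := by
  obtain ⟨i₁, φ₁, X₁, Y₁, f₁, g₁, pY₁, pX₁, hpY₁, hpX₁, hsep⟩ :=
    Groth.Agent.S9190.result D c hc i₀ f₀ g₀ f g qY qX hY hX
  have hS₁c : CompactSpace (D.obj i₁) := QuasiCompact.compactSpace_of_compactSpace (D.map φ₁)
  have hS₁q : QuasiSeparatedSpace (D.obj i₁) := quasiSeparatedSpace_of_quasiSeparated (D.map φ₁)
  have hpY₁aff : IsAffineHom pY₁ :=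
    MorphismProperty.of_isPullback (P := @IsAffineHom) hpY₁.flip inferInstance
  have hpX₁aff : IsAffineHom pX₁ :=
    MorphismProperty.of_isPullback (P := @IsAffineHom) hpX₁.flip hpY₁aff
  have hY₁c : CompactSpace Y₁ := QuasiCompact.compactSpace_of_compactSpace pY₁
  have hY₁q : QuasiSeparatedSpace Y₁ := quasiSeparatedSpace_of_quasiSeparated pY₁
  have hX₁c : CompactSpace X₁ := QuasiCompact.compactSpace_of_compactSpace pX₁
  have hX₁q : QuasiSeparatedSpace X₁ := quasiSeparatedSpace_of_quasiSeparated pX₁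
  have hf₁ : LocallyOfFiniteType f₁ :=
    MorphismProperty.of_isPullback (P := @LocallyOfFiniteType) hpX₁ inferInstance
  have hw : c.π.app i₁ ≫ D.map φ₁ = c.π.app i₀ := c.w φ₁
  -- squares at the stage `i₁`
  let qY₁ : Y ⟶ Y₁ := hpY₁.lift qY (g ≫ c.π.app i₁) (by rw [Category.assoc, hw, hY.w])
  have hqY₁ : qY₁ ≫ pY₁ = qY := hpY₁.lift_fst _ _ _
  have hY₁ : IsPullback qY₁ g g₁ (c.π.app i₁) := by
    refine IsPullback.of_right ?_ (hpY₁.lift_snd _ _ _) hpY₁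
    rw [hqY₁, hw]
    exact hY
  let qX₁ : X ⟶ X₁ := hpX₁.lift qX (f ≫ qY₁) (by rw [Category.assoc, hqY₁, hX.w])
  have hqX₁ : qX₁ ≫ pX₁ = qX := hpX₁.lift_fst _ _ _
  have hX₁ : IsPullback qX₁ f f₁ qY₁ := by
    refine IsPullback.of_right ?_ (hpX₁.lift_snd _ _ _) hpX₁
    rw [hqX₁, hqY₁]
    exact hX
  have hprop : IsProper (bc (c.π.app i₁) (f₁ ≫ g₁) g₁ f₁ rfl) :=
    prop_bc_of_squares (c.π.app i₁) _ _ f₁ rfl @IsProper f g qY₁ qX₁ hY₁ hX₁ inferInstance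
  obtain ⟨i, φ, hφ⟩ := exists_isProper_bc_of_separated D c hc i₁ f₁ g₁ hprop
  refine ⟨i, φ ≫ φ₁, pullback (f₁ ≫ g₁) (D.map φ), pullback g₁ (D.map φ),
    bc (D.map φ) (f₁ ≫ g₁) g₁ f₁ rfl, pullback.snd g₁ (D.map φ),
    pullback.fst g₁ (D.map φ) ≫ pY₁, pullback.fst (f₁ ≫ g₁) (D.map φ) ≫ pX₁, ?_, ?_, hφ⟩
  · rw [D.map_comp]
    exact (IsPullback.of_hasPullback g₁ (D.map φ)).paste_horiz hpY₁
  · exact (isPullback_bc (D.map φ) (f₁ ≫ g₁) g₁ f₁ rfl).paste_horiz hpX₁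

end Groth.Agent.H20.Chow
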