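import Mathlib

/-!
# A topological lemma: closedness of images of a decreasing family of closed subsets of a
locally closed subspace
-/

set_option autoImplicit false
open TopologicalSpace Set Topology

namespace Groth.Agent.H20.Chow

theorem exists_isCompact_isOpen_between {T : Type*} [TopologicalSpace T] [PrespectralSpace T]
    {K O : Set T} (hK : IsCompact K) (hO : IsOpen O) (hKO : K ⊆ O) :
    ∃ W : Set T, IsOpen W ∧ IsCompact W ∧ K ⊆ W ∧ W ⊆ O := by
  have hx : ∀ x : K, ∃ V : Set T, (IsOpen V ∧ IsCompact V) ∧ x.1 ∈ V ∧ V ⊆ O := fun x =>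
    PrespectralSpace.isTopologicalBasis.exists_subset_of_mem_open (hKO x.2) hO
  choose V hV hxV hVO using hx
  obtain ⟨t, ht⟩ := hK.elim_finite_subcover (fun x : K => V x) (fun x => (hV x).1)
    (fun x hx => mem_iUnion.mpr ⟨⟨x, hx⟩, hxV ⟨x, hx⟩⟩)
  refine ⟨⋃ x ∈ t, V x, isOpen_biUnion fun x _ => (hV x).1,
    t.isCompact_biUnion fun x _ => (hV x).2, ht, iUnion₂_subset fun x _ => hVO x⟩

theorem exists_isClosed_image_of_directed {T Y : Type*} [TopologicalSpace T] [TopologicalSpace Y]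
    [CompactSpace T] [PrespectralSpace T]
    (j : Y → T) (hj : IsInducing j) (hlc : IsLocallyClosed (Set.range j))
    (hqc : ∀ W : Set T, IsOpen W → IsCompact W → IsCompact (j ⁻¹' W))
    {ι : Type*} [Nonempty ι] (Z : ι → Set Y) (hZc : ∀ i, IsClosed (Z i))
    (hdir : Directed (· ⊇ ·) Z) (hcl : IsClosed (j '' ⋂ i, Z i)) :
    ∃ i, IsClosed (j '' Z i) := by
  set R := Set.range j with hR
  set C := closure R with hC
  set B := C \ R with hB
  have hBc : IsClosed B := by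
    have h1 : IsOpen (coborder R) := hlc.isOpen_coborder
    have h2 : B = (coborder R)ᶜ := by
      rw [hB, hC, coborder, compl_compl]
    rw [h2]
    exact h1.isClosed_compl
  have hBK : IsCompact B := hBc.isCompact
  have hdisj : B ⊆ (j '' ⋂ i, Z i)ᶜ := by
    rintro x ⟨-, hxR⟩ ⟨y, -, rfl⟩
    exact hxR ⟨y, rfl⟩
  obtain ⟨W, hWo, hWc, hBW, hWO⟩ := exists_isCompact_isOpen_between hBK hcl.isOpen_compl hdisj
  have hpre : IsCompact (j ⁻¹' W) := hqc W hWo hWc
  have hempty : j ⁻¹' W ∩ ⋂ i, Z i = ∅ := by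
    rw [eq_empty_iff_forall_notMem]
    rintro y ⟨hyW, hyZ⟩
    exact hWO hyW ⟨y, hyZ, rfl⟩
  obtain ⟨i, hi⟩ := hpre.elim_directed_family_closed Z hZc hempty hdir
  refine ⟨i, ?_⟩
  obtain ⟨K, hKc, hKZ⟩ := (hj.isClosed_iff).mp (hZc i)
  have heq : j '' Z i = K ∩ C ∩ Wᶜ := by
    ext x
    constructor
    · rintro ⟨y, hy, rfl⟩
      refine ⟨⟨?_, subset_closure ⟨y, rfl⟩⟩, ?_⟩
      · have : y ∈ j ⁻¹' K := by rw [hKZ]; exact hy
        exact this
      · intro hxW
        have : y ∈ j ⁻¹' W ∩ Z i := ⟨hxW, hy⟩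
        rw [hi] at this
        exact this
    · rintro ⟨⟨hxK, hxC⟩, hxW⟩
      have hxR : x ∈ R := by
        by_contra hxR
        exact hxW (hBW ⟨hxC, hxR⟩)
      obtain ⟨y, rfl⟩ := hxR
      refine ⟨y, ?_, rfl⟩
      rw [← hKZ]
      exact hxK
  rw [heq]
  exact (hKc.inter isClosed_closure).inter hWo.isClosed_compl

end Groth.Agent.H20.Chow
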