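import Groth.Agent.H20.Chow.General
import Groth.Agent.H20.Chow.TopClosed
import Groth.Agent.H20.NA.FiniteLim

/-!
# A proper scheme over a qcqs base is a limit of proper finitely presented ones
-/

set_option autoImplicit false
set_option linter.unusedSectionVars false
universe u
open CategoryTheory CategoryTheory.Limits AlgebraicGeometry TopologicalSpace Opposite

namespace Groth.Agent.H20.Chow

open Groth.Agent.H20.ClosedLimit Groth.Agent.H20.IdealDirected Groth.Agent.H20.NA

theorem ker_eq_iSup_idx {X X₁ : Scheme.{u}} (j₁ : X ⟶ X₁) [CompactSpace X₁]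
    [QuasiSeparatedSpace X₁] : j₁.ker = ⨆ i : Idx j₁, i.1 :=
  le_antisymm (le_of_forall_fg_le _ _ fun I hI hft => le_iSup (fun i : Idx j₁ => i.1) ⟨I, hI, hft⟩)
    (iSup_le fun i => i.2.1)

theorem exists_stage_isProper {X X₁ S : Scheme.{u}} (j₁ : X ⟶ X₁) (f₁ : X₁ ⟶ S)
    [IsClosedImmersion j₁] [IsSeparated f₁] [LocallyOfFiniteType f₁] [QuasiCompact f₁]
    [CompactSpace S] [QuasiSeparatedSpace S] [IsProper (j₁ ≫ f₁)] :
    ∃ i₀ : Idx j₁, IsProper (i₀.1.subschemeι ≫ f₁) := by
  have hX₁c : CompactSpace X₁ := QuasiCompact.compactSpace_of_compactSpace f₁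
  have hX₁q : QuasiSeparatedSpace X₁ := quasiSeparatedSpace_of_quasiSeparated f₁
  obtain ⟨n, X', π, j, hj, hjπ, hπ, hπs⟩ := chow_general f₁
  have hpT := Groth.Agent.H97.ProjProper.isProper_toBase n S
  have hT : CompactSpace (CohB1.ProjSpaceOver n S) :=
    QuasiCompact.compactSpace_of_compactSpace (CohB1.ProjSpaceOver.toBase n S)
  have hTq : QuasiSeparatedSpace (CohB1.ProjSpaceOver n S) :=
    quasiSeparatedSpace_of_quasiSeparated (CohB1.ProjSpaceOver.toBase n S)
  have hX'c : CompactSpace X' := QuasiCompact.compactSpace_of_compactSpace π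
  have hjqc : QuasiCompact j := inferInstance
  let Z : Idx j₁ → Set X' := fun i => π ⁻¹' (i.1.support : Set X₁)
  have hZc : ∀ i, IsClosed (Z i) := fun i => i.1.support.isClosed.preimage π.continuous
  have hdir : Directed (· ⊇ ·) Z := by
    intro a b
    obtain ⟨c, hac, hbc⟩ := directed_of (fun a b : Idx j₁ => a ≤ b) a b
    exact ⟨c, Set.preimage_mono (Scheme.IdealSheafData.support_antitone hac),
      Set.preimage_mono (Scheme.IdealSheafData.support_antitone hbc)⟩
  have hint : ⋂ i, Z i = π ⁻¹' (Set.range j₁) := by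
    have h1 : (j₁.ker.support : Set X₁) = Set.range j₁ := by
      rw [Scheme.Hom.support_ker]
      exact j₁.isClosedEmbedding.isClosed_range.closure_eq
    rw [← h1, ker_eq_iSup_idx j₁, Scheme.IdealSheafData.support_iSup]
    simp only [Z, Closeds.coe_iInf, Set.preimage_iInter]
  have hrange : ∀ {V : Scheme.{u}} (v : V ⟶ X₁),
      Set.range (pullback.fst π v ≫ j) = j '' (π ⁻¹' Set.range v) := by
    intro V v
    rw [Scheme.Hom.comp_base, TopCat.coe_comp, Set.range_comp, Scheme.Pullback.range_fst]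
  have hcl : IsClosed (j '' ⋂ i, Z i) := by
    rw [hint, ← hrange j₁]
    have hp : IsProper ((pullback.fst π j₁ ≫ j) ≫ CohB1.ProjSpaceOver.toBase n S) := by
      rw [Category.assoc, hjπ, pullback.condition_assoc]
      infer_instance
    have : IsProper (pullback.fst π j₁ ≫ j) :=
      IsProper.of_comp _ (CohB1.ProjSpaceOver.toBase n S)
    exact (pullback.fst π j₁ ≫ j).isClosedMap.isClosed_range
  obtain ⟨i₀, hi₀⟩ := exists_isClosed_image_of_directed j j.isEmbedding.isInducing
    (IsImmersion.isLocallyClosed_range (f := j)) (fun W hWo hWc => hjqc.isCompact_preimage W hWo hWc)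
    Z hZc hdir hcl
  refine ⟨i₀, ?_⟩
  have hci : IsClosedImmersion (pullback.fst π i₀.1.subschemeι ≫ j) := by
    apply IsClosedImmersion.of_isPreimmersion
    rw [hrange, Scheme.IdealSheafData.range_subschemeι]
    exact hi₀
  have hp : IsProper (pullback.snd π i₀.1.subschemeι ≫ i₀.1.subschemeι ≫ f₁) := by
    rw [← pullback.condition_assoc, ← hjπ, ← Category.assoc]
    infer_instance
  have huc : UniversallyClosed (i₀.1.subschemeι ≫ f₁) :=
    UniversallyClosed.of_comp_surjective (pullback.snd π i₀.1.subschemeι) _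
  exact {}

end Groth.Agent.H20.Chow

namespace Groth.Agent.H20.Chow

open Groth.Agent.H20.ClosedLimit Groth.Agent.H20.IdealDirected Groth.Agent.H20.NA

theorem exists_limit_proper_fp {X S : Scheme.{u}} (f : X ⟶ S) [IsProper f] [CompactSpace S]
    [QuasiSeparatedSpace S] :
    ∃ (I : Type u) (_ : SmallCategory I) (_ : IsCofiltered I) (D : I ⥤ Over S) (c : Limits.Cone D)
      (_ : Limits.IsLimit c) (e : c.pt ≅ Over.mk f),
      (∀ (i j : I) (a : i ⟶ j), IsClosedImmersion (D.map a).left) ∧
      (∀ i, IsClosedImmersion (c.π.app i).left ∧ IsProper (D.obj i).hom ∧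
        LocallyOfFinitePresentation (D.obj i).hom) := by
  obtain ⟨X₁, f₁, j₁, h1, h2, h3, h4, h5⟩ := exists_separated_fp f
  have hX₁c : CompactSpace X₁ := QuasiCompact.compactSpace_of_compactSpace f₁
  have hX₁q : QuasiSeparatedSpace X₁ := quasiSeparatedSpace_of_quasiSeparated f₁
  have hprop : IsProper (j₁ ≫ f₁) := by rw [h5]; infer_instance
  obtain ⟨i₀, hi₀⟩ := exists_stage_isProper j₁ f₁
  have hconn : IsConnected (Idx j₁)ᵒᵖ := IsCofiltered.isConnected _
  have := preservesLimitsOfShape_overMap (J := (Idx j₁)ᵒᵖ) f₁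
  have hlim : IsLimit ((Over.map f₁).mapCone (cone j₁)) :=
    isLimitOfPreserves (Over.map f₁) (isLimitCone j₁)
  refine ⟨(IdxGE j₁ i₀)ᵒᵖ, inferInstance, inferInstance,
    inclGE j₁ i₀ ⋙ diagram j₁ ⋙ Over.map f₁,
    ((Over.map f₁).mapCone (cone j₁)).whisker (inclGE j₁ i₀),
    (Functor.Initial.isLimitWhiskerEquiv (inclGE j₁ i₀) _).symm hlim,
    eqToIso (by change Over.mk (j₁ ≫ f₁) = Over.mk f; rw [h5]), ?_, ?_⟩
  · intro i j a
    change IsClosedImmersion (Scheme.IdealSheafData.inclusion
      (show j.unop.1.1 ≤ i.unop.1.1 from leOfHom a.unop))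
    exact isClosedImmersion_inclusion _
  · intro i
    have hfp : LocallyOfFinitePresentation i.unop.1.1.subschemeι :=
      Groth.Agent.H20.IdealFP.locallyOfFinitePresentation_subschemeι _ i.unop.1.2.2
    refine ⟨?_, ?_, ?_⟩
    · change IsClosedImmersion (toSub j₁ i.unop.1)
      have : IsClosedImmersion (toSub j₁ i.unop.1 ≫ i.unop.1.1.subschemeι) := by
        rw [toSub_ι]; infer_instance
      exact IsClosedImmersion.of_comp _ i.unop.1.1.subschemeι
    · change IsProper (i.unop.1.1.subschemeι ≫ f₁)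
      have hle : i₀.1 ≤ i.unop.1.1 := i.unop.2
      have e : Scheme.IdealSheafData.inclusion hle ≫ (i₀.1.subschemeι ≫ f₁) =
          i.unop.1.1.subschemeι ≫ f₁ := by
        rw [Scheme.IdealSheafData.inclusion_subschemeι_assoc]
      rw [← e]
      have := isClosedImmersion_inclusion hle
      infer_instance
    · change LocallyOfFinitePresentation (i.unop.1.1.subschemeι ≫ f₁)
      infer_instance

end Groth.Agent.H20.Chow
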