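import Groth.Agent.H20.Chow.ProperDescent
import Groth.Agent.H20.Chow.ProperStage
import Groth.Agent.H24.LimitClosedImmStage
import Groth.Agent.H24.LimitBaseChange

/-!
# A proper morphism to a limit, locally of finite type over the base, is proper over a stage
-/

set_option autoImplicit false
set_option linter.unusedSectionVars false
universe u
open CategoryTheory CategoryTheory.Limits AlgebraicGeometry TopologicalSpace Opposite

namespace Groth.Agent.H20.Chow

open Groth.Agent.H20.ClosedLimit Groth.Agent.H20.NA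

/-- A proper morphism to a qcqs scheme factors as a closed immersion followed by a proper morphism
of finite presentation. -/
theorem exists_proper_fp {X S : Scheme.{u}} (f : X ⟶ S) [IsProper f] [CompactSpace S]
    [QuasiSeparatedSpace S] :
    ∃ (X' : Scheme.{u}) (f' : X' ⟶ S) (k : X ⟶ X'), IsProper f' ∧ LocallyOfFinitePresentation f' ∧
      IsClosedImmersion k ∧ k ≫ f' = f := by
  obtain ⟨X₁, f₁, j₁, h1, h2, h3, h4, h5⟩ := exists_separated_fp f
  have hX₁c : CompactSpace X₁ := QuasiCompact.compactSpace_of_compactSpace f₁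
  have hX₁q : QuasiSeparatedSpace X₁ := quasiSeparatedSpace_of_quasiSeparated f₁
  have hprop : IsProper (j₁ ≫ f₁) := by rw [h5]; infer_instance
  obtain ⟨i₀, hi₀⟩ := exists_stage_isProper j₁ f₁
  have hfp : LocallyOfFinitePresentation i₀.1.subschemeι :=
    Groth.Agent.H20.IdealFP.locallyOfFinitePresentation_subschemeι _ i₀.2.2
  refine ⟨i₀.1.subscheme, i₀.1.subschemeι ≫ f₁, toSub j₁ i₀, hi₀, inferInstance, ?_, ?_⟩
  · have : IsClosedImmersion (toSub j₁ i₀ ≫ i₀.1.subschemeι) := by
      rw [toSub_ι]; infer_instance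
    exact IsClosedImmersion.of_comp _ i₀.1.subschemeι
  · rw [toSub_ι_assoc, h5]

variable {I : Type u} [SmallCategory I] [IsCofiltered I]
  (D : I ⥤ Scheme.{u}) (c : Limits.Cone D) (hc : Limits.IsLimit c)
  [∀ (i j : I) (f : i ⟶ j), IsAffineHom (D.map f)]
  [∀ i, CompactSpace (D.obj i)] [∀ i, QuasiSeparatedSpace (D.obj i)]

include hc in
/-- A proper morphism of finite presentation to the limit is the base change of a proper
morphism to a stage. -/
theorem exists_descend_proper {Y' : Scheme.{u}} (h' : Y' ⟶ c.pt) [IsProper h']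
    [LocallyOfFinitePresentation h'] :
    ∃ (i : I) (Yi : Scheme.{u}) (hi : Yi ⟶ D.obj i) (q : Y' ⟶ Yi), IsProper hi ∧
      IsPullback q h' hi (c.π.app i) := by
  obtain ⟨i₁, Y₁, h₁, q₁, hfp, hqc, hqs, hpb⟩ := Groth.Agent.S0591.result D c hc Y' h'
  haveI : CompactSpace Y₁ := QuasiCompact.compactSpace_of_compactSpace h₁
  haveI : QuasiSeparatedSpace Y₁ := quasiSeparatedSpace_of_quasiSeparated h₁
  have hY : IsPullback (c.π.app i₁) (𝟙 c.pt) (𝟙 (D.obj i₁)) (c.π.app i₁) := IsPullback.id_vert _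
  obtain ⟨i, φ, Xi, Yi, fi, gi, pY, pX, s1, s2, hprop⟩ :=
    exists_isProper_stage D c hc i₁ h₁ (𝟙 (D.obj i₁)) h' (𝟙 c.pt) (c.π.app i₁) q₁ hY hpb
  have hgi : IsIso gi := s1.isIso_snd_of_isIso
  have s3 : IsPullback pX (fi ≫ gi) h₁ (D.map φ) := by
    have := s2.paste_vert s1
    rwa [Category.comp_id] at this
  have hw : c.π.app i ≫ D.map φ = c.π.app i₁ := c.w φ
  let u : Y' ⟶ Xi := s3.lift q₁ (h' ≫ c.π.app i) (by rw [Category.assoc, hw, hpb.w])
  have s4 : IsPullback u h' (fi ≫ gi) (c.π.app i) := by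
    refine IsPullback.of_right ?_ (s3.lift_snd _ _ _) s3
    rw [s3.lift_fst, hw]
    exact hpb
  exact ⟨i, Xi, fi ≫ gi, u, inferInstance, s4⟩

set_option backward.isDefEq.respectTransparency false in
include hc in
theorem exists_isProper_comp_π {S : Scheme.{u}} (t : D ⟶ (Functor.const I).obj S) (i₀ : I)
    {Y : Scheme.{u}} (h : Y ⟶ c.pt) [IsProper h]
    [LocallyOfFiniteType (h ≫ c.π.app i₀ ≫ t.app i₀)] :
    ∃ i₁ : I, ∀ (i : I) (_ : i ⟶ i₁), IsProper (h ≫ c.π.app i) := by
  haveI haff : ∀ {i j : I} (f : i ⟶ j), IsAffineHom (D.map f) := fun f => inferInstance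
  have hπaff : ∀ i, IsAffineHom (c.π.app i) := fun i => isAffineHom_π_app D c hc i
  have hXc : CompactSpace c.pt := QuasiCompact.compactSpace_of_compactSpace (c.π.app i₀)
  have hXq : QuasiSeparatedSpace c.pt := quasiSeparatedSpace_of_quasiSeparated (c.π.app i₀)
  -- the structure map to `S` does not depend on the index
  have hstr : ∀ i, c.π.app i ≫ t.app i = c.π.app i₀ ≫ t.app i₀ := by
    intro i
    have e1 : c.π.app (IsCofiltered.min i i₀) ≫ t.app (IsCofiltered.min i i₀) =
        c.π.app i ≫ t.app i := by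
      have := t.naturality (IsCofiltered.minToLeft i i₀)
      simp only [Functor.const_obj_obj, Functor.const_obj_map, Category.comp_id] at this
      rw [← this, ← Category.assoc, c.w]
    have e2 : c.π.app (IsCofiltered.min i i₀) ≫ t.app (IsCofiltered.min i i₀) =
        c.π.app i₀ ≫ t.app i₀ := by
      have := t.naturality (IsCofiltered.minToRight i i₀)
      simp only [Functor.const_obj_obj, Functor.const_obj_map, Category.comp_id] at this
      rw [← this, ← Category.assoc, c.w]
    rw [← e1, e2]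
  obtain ⟨Y', h', k, hh', hfp, hk, hkh⟩ := exists_proper_fp h
  obtain ⟨i, Yi, hi, q, hhi, hsq⟩ := exists_descend_proper D c hc h'
  let D' := Groth.Agent.H24.pullbackDiagram D i hi
  let c' := Groth.Agent.H24.pullbackCone D c i hi
  have hc' : IsLimit c' := Groth.Agent.H24.isLimitPullbackCone D c i hi hc
  haveI hD'aff : ∀ {φ ψ : Over i} (f : φ ⟶ ψ), IsAffineHom (D'.map f) := fun f =>
    MorphismProperty.of_isPullback (P := @IsAffineHom)
      (Groth.Agent.H24.isPullback_pullbackDiagram_map D i hi f).flip inferInstance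
  let e : Y' ≅ pullback (c.π.app i) hi := hsq.flip.isoPullback
  have he1 : e.hom ≫ pullback.fst (c.π.app i) hi = h' := hsq.flip.isoPullback_hom_fst
  let k'' : Y ⟶ c'.pt := k ≫ e.hom
  haveI : IsClosedImmersion k'' := by
    change IsClosedImmersion (k ≫ e.hom)
    infer_instance
  let ψ₀ : Over i := Over.mk (𝟙 i)
  let p : ∀ ψ : Over i, D'.obj ψ ⟶ D.obj ψ.left := fun ψ => pullback.fst (D.map ψ.hom) hi
  have hfst : ∀ ψ : Over i, IsProper (p ψ) := fun ψ =>
    MorphismProperty.of_isPullback (P := @IsProper)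
      (IsPullback.of_hasPullback (D.map ψ.hom) hi).flip hhi
  haveI : CompactSpace (D'.obj ψ₀) := by
    have := hfst ψ₀
    exact QuasiCompact.compactSpace_of_compactSpace (p ψ₀)
  have hcomp : ∀ ψ : Over i, (k'' ≫ c'.π.app ψ) ≫ p ψ = h ≫ c.π.app ψ.left := by
    intro ψ
    have e1 : c'.π.app ψ ≫ p ψ = pullback.fst (c.π.app i) hi ≫ c.π.app ψ.left :=
      Groth.Agent.H24.pullbackCone_π_fst D c i hi ψ
    calc (k'' ≫ c'.π.app ψ) ≫ p ψ
        = k ≫ e.hom ≫ (c'.π.app ψ ≫ p ψ) := by simp only [k'', Category.assoc]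
      _ = k ≫ (e.hom ≫ pullback.fst (c.π.app i) hi) ≫ c.π.app ψ.left := by
          rw [e1]; simp only [Category.assoc]
      _ = h ≫ c.π.app ψ.left := by rw [he1, ← Category.assoc, hkh]
  haveI : LocallyOfFiniteType (k'' ≫ c'.π.app ψ₀) := by
    have : LocallyOfFiniteType ((k'' ≫ c'.π.app ψ₀) ≫ (p ψ₀ ≫ t.app ψ₀.left)) := by
      rw [← Category.assoc, hcomp ψ₀, Category.assoc, hstr ψ₀.left]
      infer_instance
    exact locallyOfFiniteType_of_comp _ (p ψ₀ ≫ t.app ψ₀.left)
  obtain ⟨j, hj⟩ := Groth.Agent.H24.exists_isClosedImmersion_comp_π hc' ψ₀ k''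
  refine ⟨j.left.left, fun i' a => ?_⟩
  have h1 : IsProper (h ≫ c.π.app j.left.left) := by
    rw [← hcomp j.left]
    have := hfst j.left
    have : IsClosedImmersion (k'' ≫ c'.π.app j.left) := hj
    infer_instance
  have h2 : (h ≫ c.π.app i') ≫ D.map a = h ≫ c.π.app j.left.left := by
    rw [Category.assoc, c.w]
  have h3 : IsProper ((h ≫ c.π.app i') ≫ D.map a) := by rw [h2]; exact h1
  exact IsProper.of_comp _ (D.map a)

end Groth.Agent.H20.Chow
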