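import Mathlib
import Groth.Agent.H20.SchImage

/-!
# Scheme-theoretically dominant morphisms: extension principles
-/

set_option autoImplicit false
universe u
open CategoryTheory CategoryTheory.Limits AlgebraicGeometry TopologicalSpace

namespace Groth.Agent.H20.Chow

variable {W X Y Z : Scheme.{u}}

set_option backward.isDefEq.respectTransparency false in
/-- Two morphisms over a separated base that agree on a scheme-theoretically dominant
morphism coincide. -/
theorem ext_of_schDominant {f g : X ⟶ Y} (s : Y ⟶ Z) [IsSeparated s] (h : f ≫ s = g ≫ s)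
    (ι : W ⟶ X) [IsSchemeTheoreticallyDominant ι] (hU : ι ≫ f = ι ≫ g) : f = g := by
  let X' : Over Z := Over.mk (f ≫ s)
  let Y' : Over Z := Over.mk s
  let U' : Over Z := Over.mk (ι ≫ f ≫ s)
  let f' : X' ⟶ Y' := Over.homMk f
  let g' : X' ⟶ Y' := Over.homMk g
  let ι' : U' ⟶ X' := Over.homMk ι
  have : IsSeparated Y'.hom := ‹_›
  have hlift : ι' ≫ f' = ι' ≫ g' := by ext1; exact hU
  have hfac : (equalizer.lift ι' hlift).left ≫ (equalizer.ι f' g').left = ι := by
    rw [← Over.comp_left, equalizer.lift_ι]
    rfl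
  have hker : (equalizer.ι f' g').left.ker = ⊥ := by
    have h1 := Scheme.Hom.le_ker_comp (equalizer.lift ι' hlift).left (equalizer.ι f' g').left
    rw [hfac, Scheme.Hom.ker_eq_bot ι] at h1
    exact le_bot_iff.mp h1
  have : IsIso (equalizer.ι f' g').left := IsClosedImmersion.isIso_iff_ker_eq_bot.mpr hker
  rw [← cancel_epi (equalizer.ι f' g').left]
  exact congr($(equalizer.condition f' g').left)

/-- A morphism whose restriction to a scheme-theoretically dominant morphism factors through a
closed immersion factors through it. -/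
theorem exists_lift_of_schDominant (a : X ⟶ Y) (i : Z ⟶ Y) [IsClosedImmersion i]
    (ι : W ⟶ X) [IsSchemeTheoreticallyDominant ι] (b : W ⟶ Z) (hb : b ≫ i = ι ≫ a) :
    ∃ a' : X ⟶ Z, a' ≫ i = a := by
  have h1 : i.ker ≤ (b ≫ i).ker := Scheme.Hom.le_ker_comp b i
  have h2 : (ι ≫ a).ker = a.ker := by
    rw [Scheme.Hom.ker_comp, Scheme.Hom.ker_eq_bot ι, Scheme.IdealSheafData.map_bot]
  rw [hb, h2] at h1
  exact ⟨IsClosedImmersion.lift i a h1, IsClosedImmersion.lift_fac i a h1⟩

end Groth.Agent.H20.Chow
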