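import Groth.Agent.H20.Chow.SchDom

/-!
# Chow's lemma: closure of a graph
-/

set_option autoImplicit false
universe u
open CategoryTheory CategoryTheory.Limits AlgebraicGeometry TopologicalSpace

namespace Groth.Agent.H20.Chow

open Groth.Agent.H20.SchImage

/-- A scheme-theoretically dominant quasi-compact morphism factoring through an open:
the factorisation is scheme-theoretically dominant. -/
lemma schDominant_of_comp_ι {U X' : Scheme.{u}} (j : U ⟶ X')
    [IsSchemeTheoreticallyDominant j] [QuasiCompact j] (O : X'.Opens)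
    (k : U ⟶ (O : Scheme.{u})) (hk : k ≫ O.ι = j) : IsSchemeTheoreticallyDominant k := by
  have h1 : IsPullback k (𝟙 U) (𝟙 (O : Scheme.{u})) k := IsPullback.id_vert k
  have h2 : IsPullback (𝟙 (O : Scheme.{u})) (𝟙 (O : Scheme.{u})) O.ι O.ι :=
    (IsKernelPair.id_of_mono O.ι)
  have h3 := h1.paste_horiz h2
  rw [Category.comp_id, hk] at h3
  exact IsSchemeTheoreticallyDominant.of_isPullback h3.flip

/-- The data for the graph closure construction. -/
structure Setup where
  {X S P : Scheme.{u}}
  f : X ⟶ S
  p : P ⟶ S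
  U : X.Opens
  φ : (U : Scheme.{u}) ⟶ P
  hφ : φ ≫ p = U.ι ≫ f

namespace Setup

variable (D : Setup.{u})

/-- The graph morphism. -/
noncomputable def ψ : (D.U : Scheme.{u}) ⟶ pullback D.f D.p :=
  pullback.lift D.U.ι D.φ D.hφ.symm

@[reassoc (attr := simp)]
lemma ψ_fst : D.ψ ≫ pullback.fst D.f D.p = D.U.ι := pullback.lift_fst _ _ _

@[reassoc (attr := simp)]
lemma ψ_snd : D.ψ ≫ pullback.snd D.f D.p = D.φ := pullback.lift_snd _ _ _

instance : IsImmersion D.ψ := by
  have : IsImmersion (D.ψ ≫ pullback.fst D.f D.p) := by rw [ψ_fst]; infer_instance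
  exact IsImmersion.of_comp D.ψ (pullback.fst D.f D.p)

/-- The closure of the graph. -/
noncomputable def X' : Scheme.{u} := D.ψ.image

/-- The inclusion of `U` into the closure of the graph. -/
noncomputable def j : (D.U : Scheme.{u}) ⟶ D.X' := D.ψ.toImage

/-- The closed immersion of the closure of the graph. -/
noncomputable def ι' : D.X' ⟶ pullback D.f D.p := D.ψ.imageι

instance : IsClosedImmersion D.ι' := inferInstanceAs (IsClosedImmersion D.ψ.imageι)

@[reassoc (attr := simp)]
lemma j_ι' : D.j ≫ D.ι' = D.ψ := D.ψ.toImage_imageι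

/-- The projection to `X`. -/
noncomputable def π : D.X' ⟶ D.X := D.ι' ≫ pullback.fst D.f D.p

/-- The projection to `P`. -/
noncomputable def h : D.X' ⟶ D.P := D.ι' ≫ pullback.snd D.f D.p

@[reassoc (attr := simp)]
lemma j_π : D.j ≫ D.π = D.U.ι := by
  rw [π, j_ι'_assoc, ψ_fst]

@[reassoc (attr := simp)]
lemma j_h : D.j ≫ D.h = D.φ := by
  rw [h, j_ι'_assoc, ψ_snd]

@[reassoc]
lemma h_p : D.h ≫ D.p = D.π ≫ D.f := by
  rw [h, π, Category.assoc, Category.assoc, pullback.condition]

instance [IsProper D.p] : IsProper D.π := by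
  unfold π
  infer_instance

section qc

variable [QuasiCompact D.ψ]

instance : IsOpenImmersion D.j := inferInstanceAs (IsOpenImmersion D.ψ.toImage)

instance : IsSchemeTheoreticallyDominant D.j :=
  inferInstanceAs (IsSchemeTheoreticallyDominant D.ψ.toImage)

instance : QuasiCompact D.j := inferInstanceAs (QuasiCompact D.ψ.toImage)

instance : IsDominant D.j := inferInstance

end qc

end Setup

end Groth.Agent.H20.Chow
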